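import Groth.Prelude.Def_W4c1limliniiiiRamP1
import Mathlib.Algebra.Polynomial.Derivative
import Mathlib.Algebra.Polynomial.RingDivision
import Mathlib.Algebra.Polynomial.FieldDivision
import Mathlib.Algebra.Polynomial.BigOperators
import Mathlib.Algebra.CharP.Lemmas
import Mathlib.FieldTheory.IsAlgClosed.Basic
import Mathlib.LinearAlgebra.FiniteDimensional.Lemmas

/-!
Pencils of polynomials and their Wronskians.
-/

namespace Groth.Agent.RamP1

open Polynomial W4c1limliniiii

variable {k : Type*} [Field k]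

lemma wronskian_comb (F G : k[X]) (a b c d : k) :
    wronskian (a • F + b • G) (c • F + d • G) = C (a * d - b * c) * wronskian F G := by
  simp only [wronskian, map_add, smul_eq_C_mul, map_sub, map_mul, derivative_mul, derivative_C, zero_mul, zero_add]
  ring

lemma wronskian_mul_left (h F G : k[X]) : wronskian (h * F) (h * G) = h ^ 2 * wronskian F G := by
  simp only [wronskian, derivative_mul]
  ring

lemma isSeparable_span_iff (F G : k[X]) :
    IsSeparable (Submodule.span k {F, G}) ↔ wronskian F G ≠ 0 := by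
  constructor
  · rintro ⟨A, hA, B, hB, h⟩ h0
    obtain ⟨a, b, rfl⟩ := Submodule.mem_span_pair.1 hA
    obtain ⟨c, d, rfl⟩ := Submodule.mem_span_pair.1 hB
    exact h (by rw [wronskian_comb, h0, mul_zero])
  · exact fun h => ⟨F, Submodule.subset_span (by simp), G, Submodule.subset_span (by simp), h⟩

lemma finrank_span_pair {F G : k[X]} (h : LinearIndependent k ![F, G]) :
    Module.finrank k (Submodule.span k {F, G}) = 2 := by
  have := finrank_span_eq_card h
  rwa [Matrix.range_cons_cons_empty, Fintype.card_fin] at this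

lemma indep_of_wronskian_ne_zero {F G : k[X]} (h : wronskian F G ≠ 0) :
    LinearIndependent k ![F, G] := by
  rw [LinearIndependent.pair_iff]
  intro s t hst
  have e1 := wronskian_comb F G s t 0 1
  have e2 := wronskian_comb F G 1 0 s t
  rw [hst, wronskian_zero_left, eq_comm, mul_eq_zero, C_eq_zero] at e1
  rw [hst, wronskian_zero_right, eq_comm, mul_eq_zero, C_eq_zero] at e2
  simp [h] at e1 e2
  exact ⟨e1, e2⟩

lemma span_pair_le {V : Submodule k k[X]} {F G : k[X]} (hF : F ∈ V) (hG : G ∈ V) :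
    Submodule.span k {F, G} ≤ V :=
  Submodule.span_le.2 (Set.insert_subset hF (Set.singleton_subset_iff.2 hG))

lemma eq_span_pair {V : Submodule k k[X]} (h2 : Module.finrank k V = 2) {F G : k[X]}
    (hF : F ∈ V) (hG : G ∈ V) (h : LinearIndependent k ![F, G]) :
    V = Submodule.span k {F, G} := by
  have : FiniteDimensional k V := Module.finite_of_finrank_eq_succ h2
  exact (Submodule.eq_of_le_of_finrank_le (span_pair_le hF hG) (by rw [h2, finrank_span_pair h])).symm

lemma indep_of_eval {F G : k[X]} (a : k) (hF : F.eval a ≠ 0) (hG0 : G ≠ 0) (hG : G.eval a = 0) :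
    LinearIndependent k ![F, G] := by
  rw [LinearIndependent.pair_iff]
  intro s t hst
  have := congrArg (eval a) hst
  simp [hG, hF] at this
  subst this
  simpa [hG0] using hst

lemma mem_degreeLE_iff {d : ℕ} {F : k[X]} : F ∈ degreeLE k (d : WithBot ℕ) ↔ F.natDegree ≤ d := by
  rw [mem_degreeLE, natDegree_le_iff_degree_le]

lemma natDegree_wronskian_le {F G : k[X]} {d : ℕ} (hF : F.natDegree ≤ d) (hG : G.natDegree ≤ d)
    (hW : wronskian F G ≠ 0) : (wronskian F G).natDegree + 2 ≤ 2 * d := by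
  have key : ∀ F G : k[X], F.natDegree ≤ d → G.natDegree ≤ d →
      F.natDegree < d ∨ G.natDegree < d → wronskian F G ≠ 0 →
      (wronskian F G).natDegree + 2 ≤ 2 * d := by
    intro F G hF hG hlt hW
    have := natDegree_wronskian_lt_add hW
    omega
  by_cases h : F.natDegree < d ∨ G.natDegree < d
  · exact key F G hF hG h hW
  push Not at h
  have hFd : F.natDegree = d := le_antisymm hF h.1
  have hGd : G.natDegree = d := le_antisymm hG h.2
  have hF0 : F ≠ 0 := by rintro rfl; simp at hW
  set c := G.leadingCoeff / F.leadingCoeff with hc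
  have hW' : wronskian F (G - c • F) = wronskian F G := by
    have := wronskian_comb F G 1 0 (-c) 1
    simp at this
    rw [sub_eq_add_neg, add_comm, ← this]
  have hd : 0 < d := by
    by_contra hd
    have := natDegree_wronskian_lt_add hW
    omega
  have hle : (G - c • F).natDegree ≤ d := (natDegree_sub_le _ _).trans
    (max_le hG ((natDegree_smul_le c F).trans hF))
  have hlt : (G - c • F).natDegree < d := by
    by_contra hge
    push Not at hge
    have heq : (G - c • F).natDegree = d := le_antisymm hle hge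
    have h0 : (G - c • F).coeff d = 0 := by
      rw [coeff_sub, coeff_smul]
      have h1 : G.coeff d = G.leadingCoeff := by rw [leadingCoeff, hGd]
      have h2 : F.coeff d = F.leadingCoeff := by rw [leadingCoeff, hFd]
      rw [h1, h2, hc, smul_eq_mul, div_mul_cancel₀ _ (leadingCoeff_ne_zero.2 hF0), sub_self]
    rw [← heq, ← leadingCoeff, leadingCoeff_eq_zero] at h0
    rw [h0] at heq
    simp at heq
    omega
  rw [← hW']
  exact key F _ hF hle (Or.inr hlt) (by rwa [hW'])

lemma pow_sub_one_dvd_wronskian {F : k[X]} (G : k[X]) {q : k[X]} {m : ℕ} (h : q ^ m ∣ F) :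
    q ^ (m - 1) ∣ wronskian F G :=
  dvd_sub (dvd_mul_of_dvd_left ((pow_dvd_pow q (Nat.sub_le m 1)).trans h) _)
    (dvd_mul_of_dvd_left (pow_sub_one_dvd_derivative_of_pow_dvd h) _)

lemma not_dvd_wronskian_of_exact {F G : k[X]} {a : k} (hF : F.eval a ≠ 0) (hG : G ≠ 0) {m : ℕ}
    (hm : G.rootMultiplicity a = m) (hmk : (m : k) ≠ 0) :
    ¬ (X - C a) ^ m ∣ wronskian F G := by
  obtain ⟨u, hu, hu'⟩ := exists_eq_pow_rootMultiplicity_mul_and_not_dvd G hG a
  rw [hm] at hu
  have hm1 : m ≠ 0 := fun h => hmk (by simp [h])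
  obtain ⟨n, rfl⟩ : ∃ n, m = n + 1 := ⟨m - 1, by omega⟩
  have e : wronskian F G = (X - C a) ^ n *
      (C ((n + 1 : ℕ) : k) * F * u + (X - C a) * (F * derivative u - derivative F * u)) := by
    rw [hu]
    have hd : derivative ((X - C a) ^ (n + 1)) = C ((n + 1 : ℕ) : k) * (X - C a) ^ n := by
      rw [derivative_X_sub_C_pow, Nat.add_sub_cancel]
    simp only [wronskian, derivative_mul, hd]
    ring
  rintro hdvd
  rw [e, pow_succ, mul_dvd_mul_iff_left (pow_ne_zero _ (X_sub_C_ne_zero a)), dvd_iff_isRoot,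
    IsRoot.def] at hdvd
  rw [dvd_iff_isRoot, IsRoot.def] at hu'
  simp [hF, hu'] at hdvd
  exact hmk (by exact_mod_cast hdvd)

/-- wronskians of two independent members of a pencil agree up to a unit -/
lemma dvd_wronskian_iff {F G A B : k[X]} (hA : A ∈ Submodule.span k {F, G})
    (hB : B ∈ Submodule.span k {F, G}) (h : LinearIndependent k ![A, B]) (q : k[X]) :
    q ∣ wronskian A B ↔ q ∣ wronskian F G := by
  obtain ⟨a, b, rfl⟩ := Submodule.mem_span_pair.1 hA
  obtain ⟨c, d, rfl⟩ := Submodule.mem_span_pair.1 hB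
  rw [wronskian_comb]
  have : a * d - b * c ≠ 0 := by
    intro h0
    rw [LinearIndependent.pair_iff] at h
    have h1 := h d (-b) (by
      match_scalars <;> first | ring1 | linear_combination h0 | linear_combination -h0)
    have h2 := h (-c) a (by
      match_scalars <;> first | ring1 | linear_combination h0 | linear_combination -h0)
    have hA := h 1 0 (by simp [neg_eq_zero.1 h1.2, h2.2])
    exact one_ne_zero hA.1
  exact (IsUnit.dvd_mul_left (isUnit_C.2 this.isUnit))

/-- multiplicities in a pencil bound the Wronskian order -/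
lemma dvd_wronskian_of_mem {F G s : k[X]} (hs : s ∈ Submodule.span k {F, G}) (hs0 : s ≠ 0) {a : k}
    {t : k[X]} (ht : t ∈ Submodule.span k {F, G}) (hta : t.eval a ≠ 0) {m : ℕ}
    (hm : (X - C a) ^ m ∣ s) : (X - C a) ^ (m - 1) ∣ wronskian F G := by
  rcases Nat.eq_zero_or_pos m with rfl | hpos
  · simp
  have hsa : s.eval a = 0 := dvd_iff_isRoot.1 ((dvd_pow_self _ hpos.ne').trans hm)
  have hi := indep_of_eval a hta hs0 hsa
  rw [← dvd_wronskian_iff ht hs hi, ← wronskian_neg_eq, dvd_neg]
  exact pow_sub_one_dvd_wronskian t hm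

lemma not_dvd_wronskian_of_mem {F G s : k[X]} (hs : s ∈ Submodule.span k {F, G}) (hs0 : s ≠ 0)
    {a : k} {t : k[X]} (ht : t ∈ Submodule.span k {F, G}) (hta : t.eval a ≠ 0) {m : ℕ}
    (hm : s.rootMultiplicity a = m) (hmk : (m : k) ≠ 0) :
    ¬ (X - C a) ^ m ∣ wronskian F G := by
  have hsa : s.eval a = 0 := by
    have : 0 < s.rootMultiplicity a := by
      rw [hm]; exact Nat.pos_of_ne_zero fun h => hmk (by simp [h])
    exact (rootMultiplicity_pos hs0).1 this
  rw [← dvd_wronskian_iff ht hs (indep_of_eval a hta hs0 hsa)]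
  exact not_dvd_wronskian_of_exact hta hs0 hm hmk

lemma hasRamIdx_of_not_dvd {F G : k[X]} {a : k} {e : ℕ}
    (hbp : ∃ t ∈ Submodule.span k {F, G}, t.eval a ≠ 0)
    (hex : ∃ s ∈ Submodule.span k {F, G}, s ≠ 0 ∧ e ≤ rootMultiplicity a s)
    (hW : ¬ (X - C a) ^ e ∣ wronskian F G) :
    HasRamIdx (Submodule.span k {F, G}) a e := by
  refine ⟨hex, fun s hs hs0 => ?_⟩
  by_contra hlt
  push Not at hlt
  obtain ⟨t, ht, hta⟩ := hbp
  have := dvd_wronskian_of_mem hs hs0 ht hta ((pow_dvd_pow _ (Nat.succ_le_of_lt hlt)).trans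
    (pow_rootMultiplicity_dvd s a))
  exact hW (by simpa using this)

lemma exists_mem_eval_eq_zero {V : Submodule k k[X]} (h2 : Module.finrank k V = 2) (a : k) :
    ∃ s ∈ V, s ≠ 0 ∧ s.eval a = 0 := by
  have : FiniteDimensional k V := Module.finite_of_finrank_eq_succ h2
  have := LinearMap.ker_ne_bot_of_finrank_lt (f := (leval a).comp V.subtype)
    (by rw [h2, Module.finrank_self]; norm_num)
  obtain ⟨s, hs, hs0⟩ := Submodule.exists_mem_ne_zero_of_ne_bot this
  exact ⟨s, s.2, fun h => hs0 (Subtype.ext h), hs⟩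

lemma isCoprime_of_pencil [IsAlgClosed k] {F G : k[X]}
    (h : ∀ a : k, ∃ s ∈ Submodule.span k {F, G}, s.eval a ≠ 0) : IsCoprime F G := by
  rw [Polynomial.isCoprime_iff_aeval_ne_zero_of_isAlgClosed k k]
  intro a
  obtain ⟨s, hs, hsa⟩ := h a
  obtain ⟨x, y, rfl⟩ := Submodule.mem_span_pair.1 hs
  by_contra hc
  push Not at hc
  simp only [coe_aeval_eq_eval] at hc
  simp [hc.1, hc.2] at hsa

lemma natDegree_eq_zero_of_derivative {p : ℕ} [CharP k p] {F : k[X]}
    (hp : p = 0 ∨ F.natDegree < p) (h : derivative F = 0) : F.natDegree = 0 := by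
  by_contra h0
  have hF : F ≠ 0 := fun hF => h0 (by simp [hF])
  have := congrArg (fun f : k[X] => f.coeff (F.natDegree - 1)) h
  simp only [coeff_derivative, coeff_zero] at this
  rw [Nat.sub_add_cancel (Nat.pos_of_ne_zero h0)] at this
  rcases mul_eq_zero.1 this with h1 | h1
  · exact leadingCoeff_ne_zero.2 hF h1
  · rw [← Nat.cast_add_one, Nat.sub_add_cancel (Nat.pos_of_ne_zero h0),
      CharP.cast_eq_zero_iff k p] at h1
    rcases hp with rfl | hp
    · exact h0 (Nat.eq_zero_of_zero_dvd h1)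
    · exact h0 (Nat.eq_zero_of_dvd_of_lt h1 hp)

lemma wronskian_ne_zero_of_indep {p : ℕ} [CharP k p] {d : ℕ} (hp : p = 0 ∨ d < p) {F G : k[X]}
    (hF : F.natDegree ≤ d) (hG : G.natDegree ≤ d) (h : LinearIndependent k ![F, G]) :
    wronskian F G ≠ 0 := by
  intro hW
  have hF0 : F ≠ 0 := h.ne_zero 0
  have hG0 : G ≠ 0 := h.ne_zero 1
  obtain ⟨F', G', g, hcop, hF', hG'⟩ :
      ∃ F' G' g : k[X], IsCoprime F' G' ∧ F = g * F' ∧ G = g * G' := by
    obtain ⟨g, hg⟩ := (IsPrincipalIdealRing.principal (Ideal.span ({F, G} : Set k[X]))).principal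
    obtain ⟨F', hF'⟩ := Ideal.mem_span_singleton'.1 (show F ∈ Ideal.span {g} by
      rw [← Ideal.submodule_span_eq, ← hg]; exact Ideal.subset_span (by simp))
    obtain ⟨G', hG'⟩ := Ideal.mem_span_singleton'.1 (show G ∈ Ideal.span {g} by
      rw [← Ideal.submodule_span_eq, ← hg]; exact Ideal.subset_span (by simp))
    obtain ⟨x, y, hxy⟩ := Ideal.mem_span_pair.1 (show g ∈ Ideal.span {F, G} from
      hg ▸ Submodule.mem_span_singleton_self g)
    have hg0 : g ≠ 0 := by
      rintro rfl
      exact hF0 (by rw [← hF', mul_zero])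
    refine ⟨F', G', g, ⟨x, y, mul_right_cancel₀ hg0 ?_⟩, by rw [← hF', mul_comm],
      by rw [← hG', mul_comm]⟩
    rw [← hF', ← hG'] at hxy
    linear_combination hxy
  subst hF' hG'
  rw [wronskian_mul_left, mul_eq_zero] at hW
  have hg : g ≠ 0 := left_ne_zero_of_mul hF0
  obtain ⟨hd1, hd2⟩ := (hcop.wronskian_eq_zero_iff).1 (hW.resolve_left (pow_ne_zero _ hg))
  rw [natDegree_mul hg (right_ne_zero_of_mul hF0)] at hF
  rw [natDegree_mul hg (right_ne_zero_of_mul hG0)] at hG
  have c1 := eq_C_of_natDegree_eq_zero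
    (natDegree_eq_zero_of_derivative (p := p) (F := F') (hp.imp_right fun hp => by omega) hd1)
  have c2 := eq_C_of_natDegree_eq_zero
    (natDegree_eq_zero_of_derivative (p := p) (F := G') (hp.imp_right fun hp => by omega) hd2)
  rw [c1, c2, LinearIndependent.pair_iff] at h
  obtain ⟨-, h0⟩ := h (G'.coeff 0) (-F'.coeff 0) (by simp [smul_eq_C_mul]; ring)
  exact right_ne_zero_of_mul hF0 (by rw [c1, neg_eq_zero.1 h0, map_zero])

end Groth.Agent.RamP1
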