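import Groth.Agent.RamP1Lib.ThreePoints
import Mathlib.RingTheory.Nullstellensatz
import Mathlib.RingTheory.MvPolynomial.Homogeneous

/-!
Finiteness of the set of pencils with prescribed ramification in characteristic zero or `> d`.
-/

namespace Groth.Agent.RamP1

open W4c1limliniiii

section Affine

variable {k σ τ : Type*} [Field k] [IsAlgClosed k] [Fintype σ] [Finite τ]

open MvPolynomial in
/-- monomial function -/
def mono (A : Set (σ → k)) (s : σ → ℕ) : A → k := fun x => ∏ i, x.1 i ^ s i

open MvPolynomial in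
lemma finite_of_cone (R : Set (MvPolynomial σ k)) (L : τ → (σ → k) →ₗ[k] k) (w : τ → k)
    (hR : ∀ r ∈ R, ∀ (t : k) (x : σ → k), eval x r = 0 → eval (t • x) r = 0)
    (h0 : ∀ x : σ → k, (∀ r ∈ R, eval x r = 0) → (∀ m, L m x = 0) → x = 0) :
    {x : σ → k | (∀ r ∈ R, eval x r = 0) ∧ ∀ m, L m x = w m}.Finite := by
  classical
  haveI := Fintype.ofFinite τ
  set A := {x : σ → k | (∀ r ∈ R, eval x r = 0) ∧ ∀ m, L m x = w m} with hA
  let ℓ : τ → MvPolynomial σ k := fun m => ∑ j, C (L m (Pi.single j 1)) * X j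
  have hℓ : ∀ m x, eval x (ℓ m) = L m x := fun m x => by
    have e := congrArg (L m) (pi_eq_sum_univ' x)
    rw [map_sum] at e
    simp only [map_smul, smul_eq_mul] at e
    rw [e]
    simp only [ℓ, map_sum, map_mul, eval_C, eval_X]
    exact Finset.sum_congr rfl fun j _ => mul_comm _ _
  let S : Set (MvPolynomial σ k) := R ∪ Set.range ℓ
  have hzero : ∀ x : σ → k, x ∈ zeroLocus k (Ideal.span S) → x = 0 := fun x hx => by
    refine h0 x (fun r hr => ?_) fun m => ?_
    · exact hx r (Ideal.subset_span (Or.inl hr))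
    · rw [← hℓ]; exact hx _ (Ideal.subset_span (Or.inr ⟨m, rfl⟩))
  have hrad : ∀ i : σ, ∃ N : ℕ, (X i : MvPolynomial σ k) ^ N ∈ Ideal.span S := fun i => by
    have : (X i : MvPolynomial σ k) ∈ vanishingIdeal k (zeroLocus k (Ideal.span S)) := fun x hx => by
      rw [aeval_X, hzero x hx]; rfl
    rw [vanishingIdeal_zeroLocus_eq_radical] at this
    exact this
  choose N hN using hrad
  -- expansion of the identities along lines
  let φ : (σ → k) → MvPolynomial σ k →+* Polynomial k := fun x =>
    eval₂Hom Polynomial.C fun j => Polynomial.C (x j) * Polynomial.X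
  have hφ : ∀ x q t, (φ x q).eval t = eval (t • x) q := fun x q t => by
    have : (Polynomial.evalRingHom t).comp (φ x) = eval (t • x) := by
      apply MvPolynomial.ringHom_ext
      · intro r
        simp only [RingHom.comp_apply, φ, eval₂Hom_C, Polynomial.coe_evalRingHom,
          Polynomial.eval_C, eval_C]
      · intro j
        simp only [RingHom.comp_apply, φ, eval₂Hom_X', Polynomial.coe_evalRingHom,
          Polynomial.eval_mul, Polynomial.eval_C, Polynomial.eval_X, eval_X, Pi.smul_apply,
          smul_eq_mul, mul_comm]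
    exact DFunLike.congr_fun this q
  have hφR : ∀ x ∈ A, ∀ r ∈ R, φ x r = 0 := fun x hx r hr =>
    Polynomial.funext fun t => by rw [hφ, hR r hr t x (hx.1 r hr), Polynomial.eval_zero]
  have hφℓ : ∀ x ∈ A, ∀ m, φ x (ℓ m) = Polynomial.C (w m) * Polynomial.X := fun x hx m =>
    Polynomial.funext fun t => by
      rw [hφ, hℓ, map_smul, hx.2 m, Polynomial.eval_mul, Polynomial.eval_C, Polynomial.eval_X,
        smul_eq_mul, mul_comm]
  have hcoeff : ∀ x q n, (φ x q).coeff n = eval x (homogeneousComponent n q) := fun x q n => by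
    induction q using MvPolynomial.induction_on' with
    | add p q hp hq => simp only [map_add, Polynomial.coeff_add, hp, hq]
    | monomial s c =>
      have e : φ x (monomial s c) =
          Polynomial.C (eval x (monomial s c)) * Polynomial.X ^ s.degree := by
        refine Polynomial.funext fun t => ?_
        rw [hφ, Polynomial.eval_mul, Polynomial.eval_C, Polynomial.eval_pow, Polynomial.eval_X,
          eval_monomial, eval_monomial, Finsupp.prod, Finsupp.prod]
        simp only [Pi.smul_apply, smul_eq_mul, mul_pow]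
        rw [Finset.prod_mul_distrib, Finset.prod_pow_eq_pow_sum]
        rw [show s.degree = ∑ i ∈ s.support, s i from rfl]
        ring
      rw [e, Polynomial.coeff_C_mul_X_pow,
        homogeneousComponent_of_mem (isHomogeneous_monomial c rfl)]
      split_ifs <;> simp
  have key : ∀ q ∈ Ideal.span S, ∀ (a : MvPolynomial σ k) (M : ℕ), ∃ b : MvPolynomial σ k,
      b.totalDegree ≤ M ∧ ∀ x ∈ A, (φ x (a * q)).coeff (M + 1) = eval x b := by
    intro q hq
    induction hq using Submodule.span_induction with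
    | mem q hq =>
      intro a M
      rcases hq with hq | ⟨m, rfl⟩
      · exact ⟨0, by simp, fun x hx => by rw [map_mul, hφR x hx q hq]; simp⟩
      · refine ⟨C (w m) * homogeneousComponent M a, ?_, fun x hx => ?_⟩
        · refine (totalDegree_mul _ _).trans ?_
          rw [totalDegree_C, zero_add]
          exact (homogeneousComponent_isHomogeneous M a).totalDegree_le
        · rw [map_mul, hφℓ x hx m, ← mul_assoc, Polynomial.coeff_mul_X, Polynomial.coeff_mul_C,
            hcoeff, map_mul, eval_C, mul_comm]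
    | zero => exact fun a M => ⟨0, by simp, fun x _ => by simp⟩
    | add q r _ _ hq hr =>
      intro a M
      obtain ⟨b, hb, hbx⟩ := hq a M
      obtain ⟨c, hc, hcx⟩ := hr a M
      exact ⟨b + c, (totalDegree_add b c).trans (max_le hb hc), fun x hx => by
        rw [mul_add, map_add, Polynomial.coeff_add, hbx x hx, hcx x hx, map_add]⟩
    | smul c q _ hq =>
      intro a M
      obtain ⟨b, hb, hbx⟩ := hq (a * c) M
      exact ⟨b, hb, fun x hx => by rw [smul_eq_mul, ← mul_assoc]; exact hbx x hx⟩
  have hrel : ∀ i : σ, ∃ b : MvPolynomial σ k, b.totalDegree ≤ N i ∧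
      ∀ x ∈ A, x i ^ (N i + 1) = eval x b := fun i => by
    obtain ⟨b, hb, hbx⟩ := key _ (hN i) (X i) (N i)
    refine ⟨b, hb, fun x hx => ?_⟩
    rw [← hbx x hx, ← pow_succ']
    rw [map_pow, show φ x (X i) = Polynomial.C (x i) * Polynomial.X from eval₂Hom_X' _ _ i,
      mul_pow, ← Polynomial.C_pow, Polynomial.coeff_C_mul_X_pow, if_pos rfl]
  choose b hb hbx using hrel
  let M : Submodule k (A → k) := Submodule.span k (Set.range fun s : ∀ i, Fin (N i + 1) =>
    mono A fun i => (s i).1)
  have hmono : ∀ n, ∀ s : σ → ℕ, ∑ i, s i = n → mono A s ∈ M := by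
    intro n
    induction n using Nat.strong_induction_on with
    | _ n ih =>
      intro s hs
      by_cases hbox : ∀ i, s i < N i + 1
      · exact Submodule.subset_span ⟨fun i => ⟨s i, hbox i⟩, rfl⟩
      push Not at hbox
      obtain ⟨i, hi⟩ := hbox
      let s' : σ → ℕ := Function.update s i (s i - (N i + 1))
      have hs' : ∑ j, s' j + (N i + 1) = n := by
        rw [← hs, ← Finset.add_sum_erase _ _ (Finset.mem_univ i),
          ← Finset.add_sum_erase _ _ (Finset.mem_univ i)]
        simp only [s', Function.update_self]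
        rw [Finset.sum_congr rfl fun j hj => Function.update_of_ne (Finset.ne_of_mem_erase hj) _ _]
        omega
      have e : mono A s = ∑ t ∈ (b i).support, (b i).coeff t • mono A (fun j => s' j + t j) := by
        funext x
        simp only [Finset.sum_apply, Pi.smul_apply, smul_eq_mul, mono, pow_add,
          Finset.prod_mul_distrib]
        calc ∏ j, x.1 j ^ s j = (∏ j, x.1 j ^ s' j) * eval x.1 (b i) := by
              rw [← hbx i x.1 x.2, ← Finset.mul_prod_erase _ _ (Finset.mem_univ i),
                ← Finset.mul_prod_erase _ (fun j => x.1 j ^ s' j) (Finset.mem_univ i)]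
              simp only [s', Function.update_self]
              rw [Finset.prod_congr rfl fun j hj => show x.1 j ^ Function.update s i (s i - (N i + 1)) j =
                x.1 j ^ s j by rw [Function.update_of_ne (Finset.ne_of_mem_erase hj)]]
              rw [mul_assoc, mul_comm (Finset.prod _ _), ← mul_assoc, ← pow_add,
                Nat.sub_add_cancel hi]
          _ = _ := by
              rw [eval_eq', Finset.mul_sum]
              exact Finset.sum_congr rfl fun t _ => by ring
      rw [e]
      refine Submodule.sum_mem _ fun t ht => Submodule.smul_mem _ _ (ih _ ?_ _ rfl)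
      have h1 := (le_totalDegree ht).trans (hb i)
      rw [Finsupp.sum_fintype _ _ (fun _ => rfl)] at h1
      rw [Finset.sum_add_distrib]
      omega
  have hpoly : ∀ q : MvPolynomial σ k, (fun x : A => eval x.1 q) ∈ M := fun q => by
    induction q using MvPolynomial.induction_on' with
    | add p q hp hq => simp only [map_add]; exact M.add_mem hp hq
    | monomial s c =>
      have e : (fun x : A => eval x.1 (monomial s c)) = c • mono A (fun i => s i) := by
        funext x
        rw [eval_monomial, Finsupp.prod_fintype _ _ (fun _ => pow_zero _)]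
        rfl
      rw [e]
      exact M.smul_mem c (hmono _ _ rfl)
  by_contra hinf
  rw [Set.not_finite] at hinf
  obtain ⟨T, hTA, hT⟩ := hinf.exists_subset_card_eq (Fintype.card (∀ i, Fin (N i + 1)) + 1)
  let ρ : (A → k) →ₗ[k] (T → k) := LinearMap.funLeft k k fun y : T => (⟨y.1, hTA y.2⟩ : A)
  have hsurj : ⊤ ≤ M.map ρ := by
    rintro g -
    have hne : ∀ y z : T, ∃ f : MvPolynomial σ k,
        y ≠ z → eval y.1 f = 1 ∧ eval z.1 f = 0 := fun y z => by
      by_cases h : y = z
      · exact ⟨0, fun h' => absurd h h'⟩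
      · obtain ⟨j, hj⟩ := Function.ne_iff.1 (fun e : y.1 = z.1 => h (Subtype.ext e))
        refine ⟨C ((y.1 j - z.1 j)⁻¹) * (X j - C (z.1 j)), fun _ => ⟨?_, by simp⟩⟩
        simp [inv_mul_cancel₀ (sub_ne_zero.2 hj)]
    choose f hf using hne
    let q : MvPolynomial σ k := ∑ y : T, C (g y) * ∏ z ∈ Finset.univ.erase y, f y z
    refine ⟨_, hpoly q, funext fun y => ?_⟩
    change eval y.1 q = g y
    simp only [q, map_sum, map_mul, map_prod, eval_C]
    rw [Finset.sum_eq_single y, Finset.prod_eq_one, mul_one]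
    · intro z hz
      exact (hf y z (Finset.ne_of_mem_erase hz).symm).1
    · intro z _ hz
      rw [Finset.prod_eq_zero (Finset.mem_erase.2 ⟨hz.symm, Finset.mem_univ y⟩) (hf z y hz).2,
        mul_zero]
    · simp
  have h1 := Submodule.finrank_mono hsurj
  rw [finrank_top, Module.finrank_fintype_fun_eq_card, Fintype.card_coe, hT, Submodule.map_span,
    ← Set.range_comp] at h1
  exact absurd (h1.trans (finrank_range_le_card _)) (by simp)

end Affine

section Pencils

open Polynomial

variable {k : Type*} [Field k] {p d n : ℕ}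

/-- the polynomial with given coefficients in degrees `≤ d` -/
noncomputable def ofCoeffs (f : Fin (d + 1) → k) : k[X] := ∑ a, f a • X ^ (a : ℕ)

lemma ofCoeffs_coeff {F : k[X]} (hF : F.natDegree ≤ d) :
    ofCoeffs (fun a : Fin (d + 1) => F.coeff a) = F := by
  conv_rhs => rw [F.as_sum_range' (d + 1) (by omega)]
  rw [ofCoeffs, Fin.sum_univ_eq_sum_range (fun a => F.coeff a • X ^ a)]
  simp [smul_eq_C_mul, C_mul_X_pow_eq_monomial]

lemma coeff_ofCoeffs (f : Fin (d + 1) → k) (a : Fin (d + 1)) : (ofCoeffs f).coeff a = f a := by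
  simp [ofCoeffs, coeff_X_pow, Fin.val_inj]

lemma natDegree_ofCoeffs (f : Fin (d + 1) → k) : (ofCoeffs f).natDegree ≤ d :=
  natDegree_sum_le_of_forall_le _ _ fun a _ =>
    (natDegree_smul_le _ _).trans (by rw [natDegree_X_pow]; omega)

/-- Plücker coordinates of two coefficient vectors -/
def pl (f g : Fin (d + 1) → k) : Fin (d + 1) × Fin (d + 1) → k :=
  fun ab => f ab.1 * g ab.2 - f ab.2 * g ab.1

/-- the Wronski map on Plücker coordinates -/
noncomputable def wr : (Fin (d + 1) × Fin (d + 1) → k) →ₗ[k] k[X] :=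
  ∑ ab : Fin (d + 1) × Fin (d + 1), LinearMap.smulRight (LinearMap.proj ab)
    ((X : k[X]) ^ (ab.1 : ℕ) * derivative (X ^ (ab.2 : ℕ)))

lemma wr_pl (f g : Fin (d + 1) → k) : wr (pl f g) = wronskian (ofCoeffs f) (ofCoeffs g) := by
  have h1 : wronskian (ofCoeffs f) (ofCoeffs g) =
      ∑ a : Fin (d + 1), ∑ b : Fin (d + 1),
        (f a * g b) • wronskian (X ^ (a : ℕ)) (X ^ (b : ℕ)) := by
    simp only [ofCoeffs, ← wronskianBilin_apply, map_sum, LinearMap.sum_apply, map_smul,
      LinearMap.smul_apply, Finset.smul_sum, smul_smul]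
    rw [Finset.sum_comm]
    exact Finset.sum_congr rfl fun a _ => Finset.sum_congr rfl fun b _ => by rw [mul_comm (f a)]
  have h2 : wr (pl f g) = ∑ a : Fin (d + 1), ∑ b : Fin (d + 1),
      (f a * g b - f b * g a) • ((X : k[X]) ^ (a : ℕ) * derivative (X ^ (b : ℕ))) := by
    rw [wr, LinearMap.sum_apply, Fintype.sum_prod_type]
    rfl
  rw [h1, h2]
  simp only [sub_smul, Finset.sum_sub_distrib, wronskian, smul_sub]
  refine congrArg₂ (fun a b : k[X] => a - b) rfl ?_
  rw [Finset.sum_comm]
  exact Finset.sum_congr rfl fun a _ => Finset.sum_congr rfl fun b _ => by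
    rw [mul_comm (X ^ (b : ℕ))]

theorem finite_ramMaps [IsAlgClosed k] [CharP k p] {P : Fin n → k} (hP : Function.Injective P)
    {e : Fin n → ℕ} (he : Admissible p d e) (hp : p = 0 ∨ d < p) : (ramMaps d P e).Finite := by
  let ι := Fin (d + 1)
  let Xv : ι → ι → MvPolynomial (ι × ι) k := fun a b => MvPolynomial.X (a, b)
  let R : Set (MvPolynomial (ι × ι) k) :=
    Set.range (fun t : ι × ι => Xv t.1 t.2 + Xv t.2 t.1) ∪ Set.range (fun a : ι => Xv a a) ∪
      Set.range (fun t : ι × ι × ι × ι => Xv t.1 t.2.1 * Xv t.2.2.1 t.2.2.2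
        - Xv t.1 t.2.2.1 * Xv t.2.1 t.2.2.2 + Xv t.1 t.2.2.2 * Xv t.2.1 t.2.2.1)
  let L : Fin (2 * d + 1) → ((ι × ι → k) →ₗ[k] k) := fun m => (lcoeff k (m : ℕ)).comp wr
  let w : Fin (2 * d + 1) → k := fun m => (ramDiv P e).coeff m
  have hzero : ∀ f g : ι → k, (∀ m, L m (pl f g) = 0) → wronskian (ofCoeffs f) (ofCoeffs g) = 0 := by
    intro f g h
    by_contra hne
    have hdeg := natDegree_wronskian_le (natDegree_ofCoeffs f) (natDegree_ofCoeffs g) hne
    refine hne (Polynomial.ext fun m => ?_)
    by_cases hm : m < 2 * d + 1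
    · have := h ⟨m, hm⟩
      rw [coeff_zero]
      exact (congrArg (fun q : k[X] => q.coeff m) (wr_pl f g)).symm.trans this
    · rw [coeff_zero]
      exact coeff_eq_zero_of_natDegree_lt (by omega)
  have hA := finite_of_cone R L w (fun r hr t x hx => ?_) (fun x hR hL => ?_)
  rotate_left
  · rcases hr with (⟨t', rfl⟩ | ⟨t', rfl⟩) | ⟨t', rfl⟩ <;>
      simp only [Xv, map_add, map_sub, map_mul, MvPolynomial.eval_X, Pi.smul_apply, smul_eq_mul] at hx ⊢
    · linear_combination t * hx
    · rw [hx, mul_zero]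
    · linear_combination t ^ 2 * hx
  · have hanti : ∀ a b, x (a, b) + x (b, a) = 0 := fun a b => by
      simpa [Xv] using hR _ (Or.inl (Or.inl ⟨(a, b), rfl⟩))
    have hdiag : ∀ a, x (a, a) = 0 := fun a => by
      simpa [Xv] using hR _ (Or.inl (Or.inr ⟨a, rfl⟩))
    have hrel : ∀ a b c e, x (a, b) * x (c, e) - x (a, c) * x (b, e) + x (a, e) * x (b, c) = 0 :=
      fun a b c e => by simpa [Xv] using hR _ (Or.inr ⟨(a, b, c, e), rfl⟩)
    by_contra hx
    obtain ⟨⟨a₀, b₀⟩, hne⟩ := Function.ne_iff.1 hx
    let f : ι → k := fun c => x (c, b₀) / x (a₀, b₀)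
    let g : ι → k := fun c => x (a₀, c)
    have hpl : pl f g = x := by
      funext ⟨c, e⟩
      simp only [pl, f, g]
      rw [div_mul_eq_mul_div, div_mul_eq_mul_div, ← sub_div, div_eq_iff hne]
      linear_combination (hrel a₀ b₀ c e) * (-1 : k) + x (a₀, e) * hanti c b₀ - x (a₀, c) * hanti e b₀
    have hind : LinearIndependent k ![ofCoeffs f, ofCoeffs g] := by
      rw [LinearIndependent.pair_iff]
      intro s t hst
      have ea := congrArg (fun q : k[X] => q.coeff (a₀ : ℕ)) hst
      have eb := congrArg (fun q : k[X] => q.coeff (b₀ : ℕ)) hst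
      simp only [coeff_add, coeff_smul, coeff_ofCoeffs, coeff_zero, smul_eq_mul, f, g, hdiag,
        zero_div, mul_zero, add_zero, zero_add, div_self hne, mul_one] at ea eb
      exact ⟨ea, (mul_eq_zero.1 eb).resolve_right hne⟩
    exact wronskian_ne_zero_of_indep hp (natDegree_ofCoeffs f) (natDegree_ofCoeffs g) hind
      (hzero f g (by rw [hpl]; exact hL))
  let span' : (ι × ι → k) → Submodule k k[X] := fun x =>
    Submodule.span k (Set.range fun b => ofCoeffs fun a => x (a, b))
  refine (hA.image span').subset fun V hV => ?_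
  obtain ⟨⟨hVd, hV2, -, hbp⟩, hsep, hram⟩ := hV
  obtain ⟨F₀, hF₀, G, hG, hW₀⟩ := hsep
  have hi₀ := indep_of_wronskian_ne_zero hW₀
  have hV₀ := eq_span_pair hV2 hF₀ hG hi₀
  obtain ⟨c, hc, hcW⟩ := wronskian_eq_C_mul (p := p) he hP (mem_degreeLE_iff.1 (hVd hF₀))
    (mem_degreeLE_iff.1 (hVd hG)) (fun i => by rw [← hV₀]; exact hbp _)
    (fun i => by rw [← hV₀]; exact (hram i).1) hW₀
  set F := c⁻¹ • F₀ with hFdef
  have hF : F ∈ V := V.smul_mem _ hF₀
  have hW : wronskian F G = ramDiv P e := by
    have := wronskian_comb F₀ G c⁻¹ 0 0 1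
    simp only [zero_smul, add_zero, zero_add, one_smul, mul_one, mul_zero, sub_zero] at this
    rw [hFdef, this, hcW, ← mul_assoc, ← map_mul, inv_mul_cancel₀ hc, map_one, one_mul]
  have hi := indep_of_wronskian_ne_zero (F := F) (G := G) (by rw [hW]; exact ramDiv_ne_zero)
  have hFd := mem_degreeLE_iff.1 (hVd hF)
  have hGd := mem_degreeLE_iff.1 (hVd hG)
  refine ⟨pl (fun a : ι => F.coeff a) (fun a : ι => G.coeff a), ⟨fun r hr => ?_, fun m => ?_⟩, ?_⟩
  · rcases hr with (⟨t, rfl⟩ | ⟨t, rfl⟩) | ⟨t, rfl⟩ <;> simp [Xv, pl] <;> ring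
  · change (wr (pl (d := d) _ _)).coeff (m : ℕ) = (ramDiv P e).coeff (m : ℕ)
    rw [wr_pl, ofCoeffs_coeff hFd, ofCoeffs_coeff hGd, hW]
  have hrow : ∀ b : ι, (ofCoeffs fun a => pl (fun a : ι => F.coeff a) (fun a : ι => G.coeff a) (a, b)) =
      G.coeff b • F - F.coeff b • G := fun b => by
    conv_rhs => rw [← ofCoeffs_coeff hFd, ← ofCoeffs_coeff hGd]
    simp only [ofCoeffs, Finset.smul_sum, ← Finset.sum_sub_distrib, coeff_ofCoeffs]
    refine Finset.sum_congr rfl fun a _ => ?_
    rw [smul_smul, smul_smul, ← sub_smul]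
    congr 1
    have e1 := coeff_ofCoeffs (fun a : ι => F.coeff a) b
    have e2 := coeff_ofCoeffs (fun a : ι => G.coeff a) b
    simp only [ofCoeffs] at e1 e2
    rw [e1, e2]
    simp [pl]
    ring
  refine le_antisymm (Submodule.span_le.2 ?_) ?_
  · rintro _ ⟨b, rfl⟩
    rw [SetLike.mem_coe]
    simp only [hrow]
    exact sub_mem (V.smul_mem _ hF) (V.smul_mem _ hG)
  · rw [eq_span_pair hV2 hF hG hi]
    -- two rows with invertible minor
    obtain ⟨a, b, hab⟩ : ∃ a b : ι, F.coeff a * G.coeff b - F.coeff b * G.coeff a ≠ 0 := by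
      by_contra h
      push Not at h
      have : pl (fun a : ι => F.coeff a) (fun a : ι => G.coeff a) = 0 :=
        funext fun ab => h ab.1 ab.2
      have := congrArg wr this
      rw [wr_pl, ofCoeffs_coeff hFd, ofCoeffs_coeff hGd, hW, map_zero] at this
      exact ramDiv_ne_zero this
    have ha : G.coeff a • F - F.coeff a • G ∈ span' (pl (fun a : ι => F.coeff a) fun a : ι => G.coeff a) :=
      hrow a ▸ Submodule.subset_span ⟨a, rfl⟩
    have hb : G.coeff b • F - F.coeff b • G ∈ span' (pl (fun a : ι => F.coeff a) fun a : ι => G.coeff a) :=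
      hrow b ▸ Submodule.subset_span ⟨b, rfl⟩
    refine span_pair_le ?_ ?_
    · refine (Submodule.smul_mem_iff _ hab).1 ?_
      rw [show (F.coeff a * G.coeff b - F.coeff b * G.coeff a) • F =
        F.coeff a • (G.coeff b • F - F.coeff b • G) - F.coeff b • (G.coeff a • F - F.coeff a • G) by
          module]
      exact sub_mem (Submodule.smul_mem _ _ hb) (Submodule.smul_mem _ _ ha)
    · refine (Submodule.smul_mem_iff _ hab).1 ?_
      rw [show (F.coeff a * G.coeff b - F.coeff b * G.coeff a) • G =
        G.coeff a • (G.coeff b • F - F.coeff b • G) - G.coeff b • (G.coeff a • F - F.coeff a • G) by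
          module]
      exact sub_mem (Submodule.smul_mem _ _ hb) (Submodule.smul_mem _ _ ha)

end Pencils

end Groth.Agent.RamP1
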