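import Groth.Agent.RamP1Lib.GenericCount
import Mathlib.LinearAlgebra.Eigenspace.Zero
import Mathlib.LinearAlgebra.Charpoly.ToMatrix
import Mathlib.RingTheory.Etale.Field
import Mathlib.RingTheory.Etale.Kaehler
import Mathlib.FieldTheory.IsAlgClosed.AlgebraicClosure

/-!
The number of pencils with prescribed ramification at four general points, degree below the
characteristic: the eigenvalues of a linear operator.
-/

set_option autoImplicit false

universe u

namespace Groth.Agent.RamP1

open Polynomial W4c1limliniiii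

section Valid

variable {L : Type u} [Field L] {p d n : ℕ} [CharP L p] {e : Fin n → ℕ} {P : Fin n → L} {F G : L[X]}

/-- two polynomials having, for every marked point, a combination vanishing to the given order -/
structure Valid (p d : ℕ) (e : Fin n → ℕ) (P : Fin n → L) (F G : L[X]) : Prop where
  hp : p = 0 ∨ d < p
  he : WAdm p d e
  inj : Function.Injective P
  degF : F.natDegree ≤ d
  degG : G.natDegree ≤ d
  ind : LinearIndependent L ![F, G]
  ram : ∀ l, ∃ α β : L, (α ≠ 0 ∨ β ≠ 0) ∧ (X - C (P l)) ^ e l ∣ C α * F + C β * G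

lemma Valid.wr (h : Valid p d e P F G) : wronskian F G ≠ 0 :=
  wronskian_ne_zero_of_indep h.hp h.degF h.degG h.ind

omit [CharP L p] in
lemma pow_dvd_wronskian_of_comb {a α β : L} {m : ℕ} (hab : α ≠ 0 ∨ β ≠ 0)
    (h : (X - C a) ^ m ∣ C α * F + C β * G) : (X - C a) ^ (m - 1) ∣ wronskian F G := by
  rcases hab with hα | hβ
  · have := pow_sub_one_dvd_wronskian G h
    have e' : wronskian (C α * F + C β * G) G = C α * wronskian F G := by
      simp only [wronskian, map_add, derivative_mul, derivative_C]; ring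
    rw [e'] at this
    exact (isUnit_C.2 hα.isUnit).dvd_mul_left.1 this
  · have := pow_sub_one_dvd_wronskian F h
    rw [← wronskian_neg_eq, dvd_neg] at this
    have e' : wronskian F (C α * F + C β * G) = C β * wronskian F G := by
      simp only [wronskian, map_add, derivative_mul, derivative_C]; ring
    rw [e'] at this
    exact (isUnit_C.2 hβ.isUnit).dvd_mul_left.1 this

lemma Valid.exact (h : Valid p d e P F G) (l : Fin n) : ¬ (X - C (P l)) ^ e l ∣ wronskian F G := by
  obtain ⟨c, hc, hW⟩ := wronskian_eq_C_mul_of_wAdm h.he h.inj h.degF h.degG h.wr fun i => by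
    obtain ⟨α, β, hab, hd⟩ := h.ram i
    exact pow_dvd_wronskian_of_comb hab hd
  rw [hW]
  intro hd
  exact not_pow_dvd_ramDiv h.inj l (by have := (h.he.1 l).1; omega)
    ((isUnit_C.2 hc.isUnit).dvd_mul_left.1 hd)

lemma Valid.eval_ne (h : Valid p d e P F G) (l : Fin n) :
    F.eval (P l) ≠ 0 ∨ G.eval (P l) ≠ 0 := by
  by_contra hc
  push Not at hc
  obtain ⟨α, β, hab, r, hr⟩ := h.ram l
  obtain ⟨F', rfl⟩ := dvd_iff_isRoot.2 hc.1
  obtain ⟨G', rfl⟩ := dvd_iff_isRoot.2 hc.2
  obtain ⟨m, hm⟩ : ∃ m, e l = m + 1 := ⟨e l - 1, by have := (h.he.1 l).1; omega⟩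
  rw [hm, pow_succ'] at hr
  have hr' : (X - C (P l)) ^ m ∣ C α * F' + C β * G' :=
    ⟨r, mul_left_cancel₀ (X_sub_C_ne_zero (P l)) (by linear_combination hr)⟩
  apply h.exact l
  rw [wronskian_mul_left]
  rcases Nat.eq_zero_or_pos m with hm0 | hm0
  · rw [hm, hm0, zero_add, pow_one, sq]
    exact dvd_mul_of_dvd_left (dvd_mul_right _ _) _
  · rw [hm, show m + 1 = 2 + (m - 1) by omega, pow_add]
    exact mul_dvd_mul_left _ (pow_dvd_wronskian_of_comb hab hr')

lemma Valid.cop (h : Valid p d e P F G) : IsCoprime F G := by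
  refine isCoprime_of_prime_dvd (fun h0 => h.wr (by rw [h0.1, wronskian_zero_left]))
    fun z hz hzF hzG => ?_
  obtain ⟨F', rfl⟩ := hzF
  obtain ⟨G', rfl⟩ := hzG
  obtain ⟨c, hc, hW⟩ := wronskian_eq_C_mul_of_wAdm h.he h.inj h.degF h.degG h.wr fun i => by
    obtain ⟨α, β, hab, hd⟩ := h.ram i
    exact pow_dvd_wronskian_of_comb hab hd
  rw [wronskian_mul_left] at hW
  have h1 : z ∣ C c * ramDiv P e := ⟨z * wronskian F' G', by rw [← hW]; ring⟩
  have h2 : z ∣ ramDiv P e := (isUnit_C.2 hc.isUnit).dvd_mul_left.1 h1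
  obtain ⟨l, -, hl⟩ := hz.exists_mem_finset_dvd h2
  have h0 : Associated z (X - C (P l)) :=
    hz.irreducible.associated_of_dvd (prime_X_sub_C _).irreducible (hz.dvd_of_dvd_pow hl)
  rcases h.eval_ne l with hu | hv
  · exact hu (dvd_iff_isRoot.1 (h0.symm.dvd.trans (dvd_mul_right _ F')))
  · exact hv (dvd_iff_isRoot.1 (h0.symm.dvd.trans (dvd_mul_right _ G')))

lemma Valid.natDegree_max (h : Valid p d e P F G) : F.natDegree = d ∨ G.natDegree = d := by
  by_contra hc
  push Not at hc
  have h1 := h.degF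
  have h2 := h.degG
  have h3 := natDegree_wronskian_le (d := d - 1) (show F.natDegree ≤ d - 1 by omega)
    (show G.natDegree ≤ d - 1 by omega) h.wr
  obtain ⟨c, hc, hW⟩ := wronskian_eq_C_mul_of_wAdm h.he h.inj h.degF h.degG h.wr fun i => by
    obtain ⟨α, β, hab, hd⟩ := h.ram i
    exact pow_dvd_wronskian_of_comb hab hd
  rw [hW, natDegree_C_mul hc] at h3
  have := natDegree_ramDiv_of_wAdm (P := P) h.he
  omega

/-- proportional pairs -/
lemma Valid.eq_C_mul (h : Valid p d e P F G) {A B : L[X]} (hA : A.natDegree ≤ d)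
    (hB : B.natDegree ≤ d) (hAB : A * G = F * B) : ∃ c : L, A = C c * F ∧ B = C c * G := by
  obtain ⟨q, rfl⟩ := h.cop.dvd_of_dvd_mul_right ⟨B, hAB⟩
  have hF0 : F ≠ 0 := fun h0 => h.wr (by rw [h0, wronskian_zero_left])
  have hG0 : G ≠ 0 := fun h0 => h.wr (by rw [h0, wronskian_zero_right])
  have hBq : B = q * G := mul_left_cancel₀ hF0 (by linear_combination -hAB)
  subst hBq
  rcases eq_or_ne q 0 with rfl | hq
  · exact ⟨0, by simp, by simp⟩
  have hq0 : q.natDegree = 0 := by
    rw [natDegree_mul hF0 hq] at hA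
    rw [natDegree_mul hq hG0] at hB
    rcases h.natDegree_max with hd | hd <;> omega
  obtain ⟨c, rfl⟩ := natDegree_eq_zero.1 hq0
  exact ⟨c, by ring, rfl⟩

lemma Valid.mem_ramMaps [IsAlgClosed L] (h : Valid p d e P F G) :
    Submodule.span L {F, G} ∈ ramMaps d P e := by
  have mF : F ∈ Submodule.span L {F, G} := Submodule.subset_span (by simp)
  have mG : G ∈ Submodule.span L {F, G} := Submodule.subset_span (by simp)
  refine ⟨⟨span_pair_le (mem_degreeLE_iff.2 h.degF) (mem_degreeLE_iff.2 h.degG),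
    finrank_span_pair h.ind, ?_, fun a => ?_⟩, (isSeparable_span_iff _ _).2 h.wr, fun l => ?_⟩
  · rcases h.natDegree_max with hd | hd
    · exact ⟨F, mF, hd⟩
    · exact ⟨G, mG, hd⟩
  · rcases eval_ne_zero_of_isCoprime h.cop a with ha | ha
    · exact ⟨F, mF, ha⟩
    · exact ⟨G, mG, ha⟩
  · refine hasRamIdx_of_not_dvd ?_ ?_ (h.exact l)
    · rcases eval_ne_zero_of_isCoprime h.cop (P l) with ha | ha
      · exact ⟨F, mF, ha⟩
      · exact ⟨G, mG, ha⟩
    · obtain ⟨α, β, hab, hd⟩ := h.ram l
      have hne : C α * F + C β * G ≠ 0 := fun h0 => by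
        have := LinearIndependent.pair_iff.1 h.ind α β (by simpa [smul_eq_C_mul] using h0)
        tauto
      exact ⟨_, Submodule.mem_span_pair.2 ⟨α, β, by simp [smul_eq_C_mul]⟩, hne,
        (le_rootMultiplicity_iff hne).2 hd⟩

end Valid

section Operators

variable {R : Type*} [CommRing R] {S : Type*} [CommRing S] {d : ℕ} {e : Fin 4 → ℕ}

/-- sorted four-point data -/
structure Sorted (d : ℕ) (e : Fin 4 → ℕ) : Prop where
  h01 : e 1 ≤ e 0
  h12 : e 2 ≤ e 1
  h23 : e 3 ≤ e 2
  h3 : 1 ≤ e 3
  h0 : e 0 ≤ d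
  sum : e 0 + e 1 + e 2 + e 3 = 2 * d + 2

/-- coordinates of the pairs of polynomials vanishing at the first two points -/
abbrev Cl (d : ℕ) (e : Fin 4 → ℕ) : Type := Fin (d + 1 - e 0) ⊕ Fin (d + 1 - e 1)

/-- coordinates of the residues at the last two points -/
noncomputable def rowEquiv (h : Sorted d e) : Cl d e ≃ Fin (e 2) ⊕ Fin (e 3) :=
  (finSumFinEquiv.trans (finCongr (by have := h.sum; have := h.h0; have := h.h01; omega))).trans
    finSumFinEquiv.symm

variable (e) in
/-- the first polynomial of a pair -/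
noncomputable def pF (P : Fin 4 → R) (v : Cl d e → R) : R[X] :=
  (X - C (P 0)) ^ e 0 * mkP fun m => v (.inl m)

variable (e) in
/-- the second polynomial of a pair -/
noncomputable def pG (P : Fin 4 → R) (v : Cl d e → R) : R[X] :=
  (X - C (P 1)) ^ e 1 * mkP fun m => v (.inr m)

lemma mkP_add {m : ℕ} (f g : Fin m → R) : mkP (f + g) = mkP f + mkP g := by
  ext i; simp only [coeff_mkP, coeff_add]; split_ifs <;> simp

lemma mkP_smul {m : ℕ} (t : R) (f : Fin m → R) : mkP (t • f) = C t * mkP f := by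
  ext i; simp only [coeff_mkP, coeff_C_mul]; split_ifs <;> simp

lemma pF_add (P : Fin 4 → R) (v w : Cl d e → R) : pF e P (v + w) = pF e P v + pF e P w := by
  rw [pF, pF, pF, ← mul_add, ← mkP_add]; rfl

lemma pG_add (P : Fin 4 → R) (v w : Cl d e → R) : pG e P (v + w) = pG e P v + pG e P w := by
  rw [pG, pG, pG, ← mul_add, ← mkP_add]; rfl

lemma pF_smul (P : Fin 4 → R) (t : R) (v : Cl d e → R) : pF e P (t • v) = C t * pF e P v := by
  rw [pF, pF, mul_left_comm, ← mkP_smul]; rfl

lemma pG_smul (P : Fin 4 → R) (t : R) (v : Cl d e → R) : pG e P (t • v) = C t * pG e P v := by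
  rw [pG, pG, mul_left_comm, ← mkP_smul]; rfl

/-- the residues of two polynomials at the last two points -/
noncomputable def res (h : Sorted d e) (P : Fin 4 → R) (A B : R[X]) : Cl d e → R := fun c =>
  Sum.elim (fun m : Fin (e 2) => (A %ₘ (X - C (P 2)) ^ e 2).coeff (m : ℕ))
    (fun m : Fin (e 3) => (B %ₘ (X - C (P 3)) ^ e 3).coeff (m : ℕ)) (rowEquiv h c)

lemma res_add (h : Sorted d e) (P : Fin 4 → R) (A B A' B' : R[X]) :
    res h P (A + A') (B + B') = res h P A B + res h P A' B' := by
  funext c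
  simp only [res, Pi.add_apply, add_modByMonic]
  rcases rowEquiv h c <;> simp

lemma res_smul (h : Sorted d e) (P : Fin 4 → R) (t : R) (A B : R[X]) :
    res h P (C t * A) (C t * B) = t • res h P A B := by
  funext c
  simp only [res, Pi.smul_apply, ← smul_eq_C_mul, smul_modByMonic]
  rcases rowEquiv h c <;> simp

/-- the sum operator -/
noncomputable def opM (h : Sorted d e) (P : Fin 4 → R) : (Cl d e → R) →ₗ[R] (Cl d e → R) where
  toFun v := res h P (pF e P v + pG e P v) (pF e P v + pG e P v)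
  map_add' v w := by rw [← res_add, pF_add, pG_add, add_add_add_comm]
  map_smul' t v := by rw [RingHom.id_apply, pF_smul, pG_smul, ← mul_add, res_smul]

/-- the variable operator -/
noncomputable def opN (h : Sorted d e) (P : Fin 4 → R) : (Cl d e → R) →ₗ[R] (Cl d e → R) where
  toFun v := res h P 0 (pG e P v)
  map_add' v w := by rw [← res_add, add_zero, pG_add]
  map_smul' t v := by rw [RingHom.id_apply, pG_smul, ← res_smul, mul_zero]

lemma opM_apply (h : Sorted d e) (P : Fin 4 → R) (v : Cl d e → R) :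
    opM h P v = res h P (pF e P v + pG e P v) (pF e P v + pG e P v) := rfl

lemma opN_apply (h : Sorted d e) (P : Fin 4 → R) (v : Cl d e → R) :
    opN h P v = res h P 0 (pG e P v) := rfl

lemma map_pF (φ : R →+* S) (P : Fin 4 → R) (v : Cl d e → R) :
    (pF e P v).map φ = pF e (φ ∘ P) (φ ∘ v) := by
  simp [pF, map_mkP, Function.comp_def]

lemma map_pG (φ : R →+* S) (P : Fin 4 → R) (v : Cl d e → R) :
    (pG e P v).map φ = pG e (φ ∘ P) (φ ∘ v) := by
  simp [pG, map_mkP, Function.comp_def]

lemma map_res (φ : R →+* S) (h : Sorted d e) (P : Fin 4 → R) (A B : R[X]) :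
    φ ∘ res h P A B = res h (φ ∘ P) (A.map φ) (B.map φ) := by
  funext c
  simp only [res, Function.comp_apply]
  rcases rowEquiv h c <;>
    simp only [Sum.elim_inl, Sum.elim_inr] <;>
    rw [← coeff_map, map_modByMonic φ ((monic_X_sub_C _).pow _)] <;>
    simp

/-- the matrix of the sum operator -/
noncomputable def matM (h : Sorted d e) (P : Fin 4 → R) : Matrix (Cl d e) (Cl d e) R :=
  LinearMap.toMatrix' (opM h P)

/-- the matrix of the variable operator -/
noncomputable def matN (h : Sorted d e) (P : Fin 4 → R) : Matrix (Cl d e) (Cl d e) R :=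
  LinearMap.toMatrix' (opN h P)

lemma comp_single (φ : R →+* S) {ι : Type*} [DecidableEq ι] (j : ι) :
    φ ∘ (Pi.single j 1 : ι → R) = Pi.single j 1 := by
  funext i
  rcases eq_or_ne i j with rfl | hij
  · simp
  · simp [hij]

lemma map_matM (φ : R →+* S) (h : Sorted d e) (P : Fin 4 → R) :
    (matM h P).map φ = matM h (φ ∘ P) := by
  ext i j
  rw [Matrix.map_apply, matM, matM, LinearMap.toMatrix'_apply, LinearMap.toMatrix'_apply,
    opM_apply, opM_apply]
  refine (congrFun (map_res φ h P _ _) i).trans ?_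
  rw [Polynomial.map_add, map_pF, map_pG, comp_single]

lemma map_matN (φ : R →+* S) (h : Sorted d e) (P : Fin 4 → R) :
    (matN h P).map φ = matN h (φ ∘ P) := by
  ext i j
  rw [Matrix.map_apply, matN, matN, LinearMap.toMatrix'_apply, LinearMap.toMatrix'_apply,
    opN_apply, opN_apply]
  refine (congrFun (map_res φ h P _ _) i).trans ?_
  rw [Polynomial.map_zero, map_pG, comp_single]

/-- the operator whose eigenvalues parametrise the pencils -/
noncomputable def matK (h : Sorted d e) (P : Fin 4 → R) : Matrix (Cl d e) (Cl d e) R :=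
  (matM h P).adjugate * matN h P

/-- the determinant of the sum operator -/
noncomputable def dl (h : Sorted d e) (P : Fin 4 → R) : R := (matM h P).det

/-- the eigenvalue polynomial -/
noncomputable def chi (h : Sorted d e) (P : Fin 4 → R) : R[X] := (matK h P).charpoly

lemma map_dl (φ : R →+* S) (h : Sorted d e) (P : Fin 4 → R) : φ (dl h P) = dl h (φ ∘ P) := by
  rw [dl, dl, RingHom.map_det, RingHom.mapMatrix_apply, map_matM]

lemma map_chi (φ : R →+* S) (h : Sorted d e) (P : Fin 4 → R) :
    (chi h P).map φ = chi h (φ ∘ P) := by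
  rw [chi, chi, ← Matrix.charpoly_map, matK, matK, Matrix.map_mul, ← map_matM φ, ← map_matN φ,
    ← RingHom.mapMatrix_apply, RingHom.map_adjugate]
  rfl

lemma monic_chi (h : Sorted d e) (P : Fin 4 → R) : (chi h P).Monic := Matrix.charpoly_monic _

lemma natDegree_chi [Nontrivial R] (h : Sorted d e) (P : Fin 4 → R) :
    (chi h P).natDegree = e 2 + e 3 := by
  rw [chi, Matrix.charpoly_natDegree_eq_dim, Fintype.card_congr (rowEquiv h), Fintype.card_sum,
    Fintype.card_fin, Fintype.card_fin]

end Operators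

section FieldOps

variable {L : Type u} [Field L] {d : ℕ} {e : Fin 4 → ℕ} {P : Fin 4 → L} {v : Cl d e → L}

lemma res_eq_zero_iff (h : Sorted d e) (A B : L[X]) :
    res h P A B = 0 ↔ (X - C (P 2)) ^ e 2 ∣ A ∧ (X - C (P 3)) ^ e 3 ∣ B := by
  have key : ∀ (a : L) (m : ℕ) (S : L[X]),
      (∀ i : Fin m, (S %ₘ (X - C a) ^ m).coeff i = 0) ↔ (X - C a) ^ m ∣ S := by
    intro a m S
    rw [← modByMonic_eq_zero_iff_dvd ((monic_X_sub_C a).pow m)]
    refine ⟨fun hc => ?_, fun h0 i => by rw [h0, coeff_zero]⟩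
    ext i
    rcases Nat.lt_or_ge i m with hi | hi
    · exact (hc ⟨i, hi⟩).trans (coeff_zero i).symm
    · rw [coeff_zero]
      refine coeff_eq_zero_of_degree_lt ((degree_modByMonic_lt _ ((monic_X_sub_C a).pow m)).trans_le ?_)
      rw [degree_pow, degree_X_sub_C, nsmul_one]
      exact Nat.cast_le.2 hi
  rw [← key, ← key]
  constructor
  · intro h0
    exact ⟨fun i => by simpa [res] using congrFun h0 ((rowEquiv h).symm (.inl i)),
      fun i => by simpa [res] using congrFun h0 ((rowEquiv h).symm (.inr i))⟩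
  · rintro ⟨h1, h2⟩
    funext c
    rcases hc : rowEquiv h c with i | i
    · simpa [res, hc] using h1 i
    · simpa [res, hc] using h2 i

lemma natDegree_pF (h : Sorted d e) (v : Cl d e → L) : (pF e P v).natDegree ≤ d := by
  rw [pF]
  refine natDegree_mul_le.trans ?_
  rw [natDegree_pow, natDegree_X_sub_C, mul_one]
  obtain ⟨m, hm⟩ : ∃ m, d + 1 - e 0 = m + 1 := ⟨d - e 0, by have := h.h0; omega⟩
  have : (mkP fun i : Fin (d + 1 - e 0) => v (.inl i)).natDegree ≤ m :=
    natDegree_le_iff_coeff_eq_zero.2 fun i hi => by rw [coeff_mkP, dif_neg (by omega)]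
  omega

lemma natDegree_pG (h : Sorted d e) (v : Cl d e → L) : (pG e P v).natDegree ≤ d := by
  rw [pG]
  refine natDegree_mul_le.trans ?_
  rw [natDegree_pow, natDegree_X_sub_C, mul_one]
  have h1 : e 1 ≤ d := h.h01.trans h.h0
  obtain ⟨m, hm⟩ : ∃ m, d + 1 - e 1 = m + 1 := ⟨d - e 1, by omega⟩
  have : (mkP fun i : Fin (d + 1 - e 1) => v (.inr i)).natDegree ≤ m :=
    natDegree_le_iff_coeff_eq_zero.2 fun i hi => by rw [coeff_mkP, dif_neg (by omega)]
  omega

lemma eq_zero_of_pF_pG (hF : pF e P v = 0) (hG : pG e P v = 0) : v = 0 := by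
  rw [pF, mul_eq_zero, or_iff_right (pow_ne_zero _ (X_sub_C_ne_zero _))] at hF
  rw [pG, mul_eq_zero, or_iff_right (pow_ne_zero _ (X_sub_C_ne_zero _))] at hG
  funext c
  rcases c with m | m
  · have := congrArg (fun q : L[X] => q.coeff m) hF
    simpa [coeff_mkP] using this
  · have := congrArg (fun q : L[X] => q.coeff m) hG
    simpa [coeff_mkP] using this

lemma dvd_pF (v : Cl d e → L) : (X - C (P 0)) ^ e 0 ∣ pF e P v := dvd_mul_right _ _

lemma dvd_pG (v : Cl d e → L) : (X - C (P 1)) ^ e 1 ∣ pG e P v := dvd_mul_right _ _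

lemma eq_zero_of_dvd_two {a b : L} (hab : a ≠ b) {m m' : ℕ} {S : L[X]} (hS : S.natDegree ≤ d)
    (hm : d < m + m') (h1 : (X - C a) ^ m ∣ S) (h2 : (X - C b) ^ m' ∣ S) : S = 0 := by
  by_contra hS0
  have h3 : (X - C a) ^ m * (X - C b) ^ m' ∣ S :=
    ((isCoprime_X_sub_C_of_isUnit_sub (sub_ne_zero.2 hab).isUnit).pow).mul_dvd h1 h2
  have h4 := natDegree_le_of_dvd h3 hS0
  rw [natDegree_mul (pow_ne_zero _ (X_sub_C_ne_zero _)) (pow_ne_zero _ (X_sub_C_ne_zero _)),
    natDegree_pow, natDegree_pow, natDegree_X_sub_C, natDegree_X_sub_C] at h4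
  omega

lemma eq_zero_of_dvd_three (hP : Function.Injective P) {i j l : Fin 4} (hij : i ≠ j) (hil : i ≠ l)
    (hjl : j ≠ l) {S : L[X]} (hS : S.natDegree ≤ d) (hm : d < e i + e j + e l)
    (h1 : (X - C (P i)) ^ e i ∣ S) (h2 : (X - C (P j)) ^ e j ∣ S)
    (h3 : (X - C (P l)) ^ e l ∣ S) : S = 0 := by
  by_contra hS0
  have hc : ∀ {a b : Fin 4}, a ≠ b → IsCoprime ((X - C (P a)) ^ e a) ((X - C (P b)) ^ e b) :=
    fun hab => (isCoprime_X_sub_C_of_isUnit_sub (sub_ne_zero.2 (hP.ne hab)).isUnit).pow
  have h4 := natDegree_le_of_dvd (((hc hil).mul_left (hc hjl)).mul_dvd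
    ((hc hij).mul_dvd h1 h2) h3) hS0
  simp only [natDegree_mul (mul_ne_zero (pow_ne_zero _ (X_sub_C_ne_zero _))
    (pow_ne_zero _ (X_sub_C_ne_zero _))) (pow_ne_zero _ (X_sub_C_ne_zero _)),
    natDegree_mul (pow_ne_zero _ (X_sub_C_ne_zero _)) (pow_ne_zero _ (X_sub_C_ne_zero _)),
    natDegree_pow, natDegree_X_sub_C, mul_one] at h4
  omega

lemma indep_pF_pG (h : Sorted d e) (hP : Function.Injective P) (hF : pF e P v ≠ 0)
    (hG : pG e P v ≠ 0) : LinearIndependent L ![pF e P v, pG e P v] := by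
  rw [LinearIndependent.pair_iff]
  intro s t hst
  rcases eq_or_ne s 0 with rfl | hs
  · simp only [zero_smul, zero_add, smul_eq_zero, hG, or_false] at hst
    exact ⟨rfl, hst⟩
  exfalso
  refine hF (eq_zero_of_dvd_two (m := e 0) (m' := e 1) (hP.ne (show (0 : Fin 4) ≠ 1 by decide)) (natDegree_pF h v)
    (by have := h.sum; have := h.h12; have := h.h23; have := h.h01; omega) (dvd_pF v) ?_)
  have e1 : pF e P v = C (-(t / s)) * pG e P v := by
    have := congrArg (fun z => s⁻¹ • z) hst
    simp only [smul_add, smul_smul, inv_mul_cancel₀ hs, one_smul, smul_zero] at this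
    rw [eq_neg_of_add_eq_zero_left this, smul_eq_C_mul, map_neg, neg_mul, div_eq_inv_mul]
  rw [e1]
  exact dvd_mul_of_dvd_right (dvd_pG v) _

/-- a pencil from a pair with two residue relations -/
lemma valid_of_rel {p : ℕ} [CharP L p] (hp : p = 0 ∨ d < p) (he : WAdm p d e) (h : Sorted d e)
    (hP : Function.Injective P) (hF : pF e P v ≠ 0) (hG : pG e P v ≠ 0) {α β γ δ : L}
    (hab : α ≠ 0 ∨ β ≠ 0) (hgd : γ ≠ 0 ∨ δ ≠ 0)
    (h2 : (X - C (P 2)) ^ e 2 ∣ C α * pF e P v + C β * pG e P v)
    (h3 : (X - C (P 3)) ^ e 3 ∣ C γ * pF e P v + C δ * pG e P v) :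
    Valid p d e P (pF e P v) (pG e P v) := by
  refine ⟨hp, he, hP, natDegree_pF h v, natDegree_pG h v, indep_pF_pG h hP hF hG, fun l => ?_⟩
  fin_cases l
  · exact ⟨1, 0, Or.inl one_ne_zero, by simpa using dvd_pF v⟩
  · exact ⟨0, 1, Or.inr one_ne_zero, by simpa using dvd_pG v⟩
  · exact ⟨α, β, hab, h2⟩
  · exact ⟨γ, δ, hgd, h3⟩

lemma matM_mulVec (h : Sorted d e) (v : Cl d e → L) :
    (matM h P).mulVec v = opM h P v := LinearMap.toMatrix'_mulVec _ _

lemma matN_mulVec (h : Sorted d e) (v : Cl d e → L) :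
    (matN h P).mulVec v = opN h P v := LinearMap.toMatrix'_mulVec _ _

lemma matM_mulVec_matK (h : Sorted d e) (v : Cl d e → L) :
    opM h P ((matK h P).mulVec v) = dl h P • opN h P v := by
  rw [← matM_mulVec, ← matN_mulVec, Matrix.mulVec_mulVec, matK, ← Matrix.mul_assoc,
    Matrix.mul_adjugate, smul_mul_assoc, Matrix.one_mul, Matrix.smul_mulVec, dl]

lemma opM_injective (h : Sorted d e) (hd : dl h P ≠ 0) : Function.Injective (opM h P) := by
  rw [injective_iff_map_eq_zero]
  intro v hv
  have : (matM h P).adjugate.mulVec ((matM h P).mulVec v) = 0 := by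
    rw [matM_mulVec, hv, Matrix.mulVec_zero]
  rw [Matrix.mulVec_mulVec, Matrix.adjugate_mul, Matrix.smul_mulVec, Matrix.one_mulVec] at this
  exact (smul_eq_zero.1 this).resolve_left hd

/-- an eigenvector: the two residue relations -/
lemma rel_of_eigen (h : Sorted d e) (hd : dl h P ≠ 0) {x : L} (hx : x ≠ 0)
    (hv : (matK h P).mulVec v = x • v) :
    (X - C (P 2)) ^ e 2 ∣ pF e P v + pG e P v ∧
      (X - C (P 3)) ^ e 3 ∣ pF e P v + C (1 - dl h P / x) * pG e P v := by
  have h1 := matM_mulVec_matK (P := P) h v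
  rw [hv, map_smul, opM_apply, opN_apply, ← res_smul, ← res_smul, mul_zero] at h1
  have h2 : res h P (C x * (pF e P v + pG e P v))
      (C x * (pF e P v + pG e P v) - C (dl h P) * pG e P v) = 0 := by
    have := res_add h P (C x * (pF e P v + pG e P v))
      (C x * (pF e P v + pG e P v) - C (dl h P) * pG e P v) 0 (C (dl h P) * pG e P v)
    rw [add_zero, sub_add_cancel, h1] at this
    simpa using this
  rw [res_eq_zero_iff] at h2
  refine ⟨(isUnit_C.2 hx.isUnit).dvd_mul_left.1 h2.1, (isUnit_C.2 hx.isUnit).dvd_mul_left.1 ?_⟩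
  have e1 : C x * (pF e P v + C (1 - dl h P / x) * pG e P v) =
      C x * (pF e P v + pG e P v) - C (dl h P) * pG e P v := by
    have : C x * C (dl h P / x) = C (dl h P) := by rw [← map_mul, mul_div_cancel₀ _ hx]
    simp only [map_sub, map_one]
    linear_combination -(pG e P v) * this
  rw [e1]; exact h2.2

end FieldOps

section GoodPoint

variable {k : Type u} [Field k]

lemma mkP_coeff_of_lt {m : ℕ} {Q : k[X]} (hQ : Q = 0 ∨ Q.natDegree < m) :
    mkP (fun i : Fin m => Q.coeff i) = Q := by
  ext i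
  rw [coeff_mkP]
  split_ifs with h
  · rfl
  · rcases hQ with rfl | hQ
    · simp
    · exact (coeff_eq_zero_of_natDegree_lt (by omega)).symm

/-- coefficient vectors of polynomials with a prescribed zero -/
noncomputable def zeroVec (N : ℕ) (a : k) (m : ℕ) : Submodule k (Fin N → k) where
  carrier := {w | (X - C a) ^ m ∣ mkP w}
  add_mem' {v w} hv hw := by
    show (X - C a) ^ m ∣ mkP (v + w)
    rw [mkP_add]; exact dvd_add hv hw
  zero_mem' := by
    show (X - C a) ^ m ∣ mkP (0 : Fin N → k)
    rw [show mkP (0 : Fin N → k) = 0 by ext; simp [coeff_mkP]]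
    exact dvd_zero _
  smul_mem' t v hv := by
    show (X - C a) ^ m ∣ mkP (t • v)
    rw [mkP_smul]; exact dvd_mul_of_dvd_right hv _

lemma finrank_zeroVec (N : ℕ) (a : k) (m : ℕ) : Module.finrank k (zeroVec N a m) = N - m := by
  let ι : (Fin (N - m) → k) →ₗ[k] (Fin N → k) :=
    { toFun := fun u i => ((X - C a) ^ m * mkP u).coeff i
      map_add' := fun u v => by funext i; simp [mkP_add, mul_add]
      map_smul' := fun t u => by
        funext i
        simp [mkP_smul, mul_left_comm ((X - C a) ^ m) (C t)] }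
  have hdeg : ∀ u : Fin (N - m) → k,
      (X - C a) ^ m * mkP u = 0 ∨ ((X - C a) ^ m * mkP u).natDegree < N := by
    intro u
    refine or_iff_not_imp_left.2 fun h0 => ?_
    rw [natDegree_mul (pow_ne_zero _ (X_sub_C_ne_zero a)) (right_ne_zero_of_mul h0), natDegree_pow,
      natDegree_X_sub_C, mul_one]
    have hu : (mkP u).natDegree < N - m := by
      by_contra hle
      push Not at hle
      refine right_ne_zero_of_mul h0 (leadingCoeff_eq_zero.1 ?_)
      rw [leadingCoeff, coeff_mkP, dif_neg (by omega)]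
    omega
  have hinj : Function.Injective ι := by
    rw [injective_iff_map_eq_zero]
    intro u hu
    have h1 : (X - C a) ^ m * mkP u = 0 := by
      rw [← mkP_coeff_of_lt (hdeg u)]
      ext i; simp only [coeff_mkP, coeff_zero]
      split_ifs with hi
      · exact congrFun hu ⟨i, hi⟩
      · rfl
    funext i
    have := congrArg (fun q : k[X] => q.coeff i)
      ((mul_eq_zero.1 h1).resolve_left (pow_ne_zero _ (X_sub_C_ne_zero a)))
    simpa [coeff_mkP] using this
  have hr : LinearMap.range ι = zeroVec N a m := by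
    ext w
    constructor
    · rintro ⟨u, rfl⟩
      show (X - C a) ^ m ∣ mkP (ι u)
      rw [show mkP (ι u) = (X - C a) ^ m * mkP u from mkP_coeff_of_lt (hdeg u)]
      exact dvd_mul_right _ _
    · rintro ⟨g, hg⟩
      refine ⟨fun i => g.coeff i, ?_⟩
      have hgd : g = 0 ∨ g.natDegree < N - m := by
        refine or_iff_not_imp_left.2 fun hg0 => ?_
        have hne : (X - C a) ^ m * g ≠ 0 := mul_ne_zero (pow_ne_zero _ (X_sub_C_ne_zero a)) hg0
        have h1 : ((X - C a) ^ m * g).natDegree < N := by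
          by_contra hle
          push Not at hle
          refine hne (leadingCoeff_eq_zero.1 ?_)
          rw [leadingCoeff, ← hg, coeff_mkP, dif_neg (by rw [hg]; omega)]
        rw [natDegree_mul (pow_ne_zero _ (X_sub_C_ne_zero a)) hg0, natDegree_pow, natDegree_X_sub_C,
          mul_one] at h1
        omega
      funext i
      show ((X - C a) ^ m * mkP _).coeff i = w i
      rw [mkP_coeff_of_lt hgd, ← hg, coeff_mkP, dif_pos i.2]
  rw [← hr, LinearMap.finrank_range_of_inj hinj, Module.finrank_fin_fun]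

lemma maxGenEigenspace_eq_eigenspace {V : Type*} [AddCommGroup V] [Module k V] (f : Module.End k V)
    (μ : k) (h : ∀ y v, f v = μ • v → f y - μ • y = v → v = 0) :
    f.maxGenEigenspace μ = f.eigenspace μ := by
  refine le_antisymm (fun y hy => ?_) ?_
  · obtain ⟨m, hm⟩ := (Module.End.mem_maxGenEigenspace f μ y).1 hy
    rw [Module.End.mem_eigenspace_iff]
    induction m generalizing y with
    | zero =>
      rw [pow_zero, Module.End.one_apply] at hm
      simp [hm]
    | succ m ih =>
      rw [pow_succ, Module.End.mul_apply] at hm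
      have h2 : f ((f - μ • 1) y) = μ • (f - μ • 1) y :=
        ih _ ((Module.End.mem_maxGenEigenspace f μ _).2 ⟨m, hm⟩) hm
      have h3 := h y ((f - μ • 1) y) h2 (by simp)
      simpa [sub_eq_zero] using h3
  · exact (Module.End.genEigenspace f μ).monotone le_top

variable [IsAlgClosed k] {p : ℕ} [CharP k p] {d : ℕ} {e : Fin 4 → ℕ} {P : Fin 4 → k}

/-- hypotheses at a good point -/
structure GoodPt (p d : ℕ) (e : Fin 4 → ℕ) (P : Fin 4 → k) : Prop where
  hp : p = 0 ∨ d < p
  he : WAdm p d e
  srt : Sorted d e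
  inj : Function.Injective P
  sep : ∀ V ∈ ramMaps d P e, ∀ i j : Fin 4, i ≠ j →
    ∀ s ∈ V, (s.IsRoot (P i) ∧ s.IsRoot (P j)) → s = 0

lemma GoodPt.no_coincidence (hg : GoodPt p d e P) {v : Cl d e → k}
    (hV : Valid p d e P (pF e P v) (pG e P v)) {α β : k} (hab : α ≠ 0 ∨ β ≠ 0) {i j : Fin 4}
    (hij : i ≠ j) (hi : (X - C (P i)) ^ e i ∣ C α * pF e P v + C β * pG e P v)
    (hj : (X - C (P j)) ^ e j ∣ C α * pF e P v + C β * pG e P v) : False := by
  have hne : C α * pF e P v + C β * pG e P v ≠ 0 := fun h0 => by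
    have := LinearIndependent.pair_iff.1 hV.ind α β (by simpa [smul_eq_C_mul] using h0)
    tauto
  have hroot : ∀ l, (X - C (P l)) ^ e l ∣ C α * pF e P v + C β * pG e P v →
      (C α * pF e P v + C β * pG e P v).IsRoot (P l) := fun l hl =>
    dvd_iff_isRoot.1 ((dvd_pow_self _ (by have := (hg.he.1 l).1; omega)).trans hl)
  exact hne (hg.sep _ hV.mem_ramMaps i j hij _
    (Submodule.mem_span_pair.2 ⟨α, β, by simp [smul_eq_C_mul]⟩) ⟨hroot i hi, hroot j hj⟩)

lemma GoodPt.dl_ne_zero (hg : GoodPt p d e P) : dl hg.srt P ≠ 0 := by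
  have hs := hg.srt
  have := hs.sum; have := hs.h01; have := hs.h12; have := hs.h23; have := hs.h0
  intro h0
  obtain ⟨v, hv0, hv⟩ := Matrix.exists_mulVec_eq_zero_iff.2 h0
  rw [matM_mulVec, opM_apply, res_eq_zero_iff] at hv
  refine hv0 ?_
  rcases eq_or_ne (pF e P v) 0 with hF | hF
  · rw [hF, zero_add] at hv
    exact eq_zero_of_pF_pG hF (eq_zero_of_dvd_three (i := 1) (j := 2) (l := 3) hg.inj (by decide)
      (by decide) (by decide) (natDegree_pG hs v) (by omega) (dvd_pG v) hv.1 hv.2)
  rcases eq_or_ne (pG e P v) 0 with hG | hG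
  · rw [hG, add_zero] at hv
    exact eq_zero_of_pF_pG (eq_zero_of_dvd_three (i := 0) (j := 2) (l := 3) hg.inj (by decide)
      (by decide) (by decide) (natDegree_pF hs v) (by omega) (dvd_pF v) hv.1 hv.2) hG
  exfalso
  have h2 : (X - C (P 2)) ^ e 2 ∣ C 1 * pF e P v + C 1 * pG e P v := by simpa using hv.1
  have h3 : (X - C (P 3)) ^ e 3 ∣ C 1 * pF e P v + C 1 * pG e P v := by simpa using hv.2
  exact hg.no_coincidence (valid_of_rel hg.hp hg.he hs hg.inj hF hG (Or.inl one_ne_zero)
    (Or.inl one_ne_zero) h2 h3) (Or.inl one_ne_zero) (i := 2) (j := 3) (by decide) h2 h3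

lemma GoodPt.mulVec_eq_zero_iff (hg : GoodPt p d e P) (v : Cl d e → k) :
    (matK hg.srt P).mulVec v = 0 ↔ (X - C (P 3)) ^ e 3 ∣ pG e P v := by
  have h1 := matM_mulVec_matK (P := P) hg.srt v
  rw [← (opM_injective hg.srt hg.dl_ne_zero).eq_iff, map_zero, h1, smul_eq_zero,
    or_iff_right hg.dl_ne_zero, opN_apply, res_eq_zero_iff]
  simp

lemma GoodPt.jordan_zero (hg : GoodPt p d e P) {y v : Cl d e → k}
    (hv : (matK hg.srt P).mulVec v = 0) (hy : (matK hg.srt P).mulVec y = v) : v = 0 := by
  have hs := hg.srt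
  have := hs.sum; have := hs.h01; have := hs.h12; have := hs.h23; have := hs.h0
  have hG3 := (hg.mulVec_eq_zero_iff v).1 hv
  have h1 := matM_mulVec_matK (P := P) hg.srt y
  rw [hy, opM_apply, opN_apply, ← res_smul, mul_zero] at h1
  have h2 : res hs P (pF e P v + pG e P v) (pF e P v + pG e P v - C (dl hs P) * pG e P y) = 0 := by
    have := res_add hs P (pF e P v + pG e P v)
      (pF e P v + pG e P v - C (dl hs P) * pG e P y) 0 (C (dl hs P) * pG e P y)
    rw [add_zero, sub_add_cancel, h1] at this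
    simpa using this
  obtain ⟨h2, -⟩ := (res_eq_zero_iff _ _ _).1 h2
  rcases eq_or_ne (pF e P v) 0 with hF | hF
  · rw [hF, zero_add] at h2
    exact eq_zero_of_pF_pG hF (eq_zero_of_dvd_three (i := 1) (j := 2) (l := 3) hg.inj (by decide)
      (by decide) (by decide) (natDegree_pG hs v) (by omega) (dvd_pG v) h2 hG3)
  rcases eq_or_ne (pG e P v) 0 with hG | hG
  · rw [hG, add_zero] at h2
    exact eq_zero_of_pF_pG (eq_zero_of_dvd_two (m := e 0) (m' := e 2)
      (hg.inj.ne (show (0 : Fin 4) ≠ 2 by decide)) (natDegree_pF hs v) (by omega) (dvd_pF v) h2) hG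
  exfalso
  refine hg.no_coincidence (valid_of_rel hg.hp hg.he hs hg.inj hF hG (α := 1) (β := 1) (γ := 0)
    (δ := 1) (Or.inl one_ne_zero) (Or.inr one_ne_zero) (by simpa using h2) (by simpa using hG3))
    (α := 0) (β := 1) (Or.inr one_ne_zero) (i := 1) (j := 3) (by decide) ?_ ?_
  · simpa using dvd_pG v
  · simpa using hG3

lemma GoodPt.eigen_dl_iff (hg : GoodPt p d e P) (v : Cl d e → k) :
    (matK hg.srt P).mulVec v = dl hg.srt P • v ↔
      pF e P v = 0 ∧ (X - C (P 2)) ^ e 2 ∣ pG e P v := by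
  have hs := hg.srt
  have := hs.sum; have := hs.h01; have := hs.h12; have := hs.h23; have := hs.h0
  constructor
  · intro hv
    obtain ⟨h2, h3⟩ := rel_of_eigen hs hg.dl_ne_zero hg.dl_ne_zero hv
    rw [div_self hg.dl_ne_zero, sub_self, map_zero, zero_mul, add_zero] at h3
    rcases eq_or_ne (pF e P v) 0 with hF | hF
    · exact ⟨hF, by simpa [hF] using h2⟩
    exfalso
    rcases eq_or_ne (pG e P v) 0 with hG | hG
    · rw [hG, add_zero] at h2
      exact hF (eq_zero_of_dvd_two (m := e 0) (m' := e 2)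
        (hg.inj.ne (show (0 : Fin 4) ≠ 2 by decide)) (natDegree_pF hs v) (by omega) (dvd_pF v) h2)
    refine hg.no_coincidence (valid_of_rel hg.hp hg.he hs hg.inj hF hG (α := 1) (β := 1) (γ := 1)
      (δ := 0) (Or.inl one_ne_zero) (Or.inl one_ne_zero) (by simpa using h2) (by simpa using h3))
      (α := 1) (β := 0) (Or.inl one_ne_zero) (i := 0) (j := 3) (by decide) ?_ ?_
    · simpa using dvd_pF v
    · simpa using h3
  · rintro ⟨hF, h2⟩
    refine opM_injective hs hg.dl_ne_zero ?_
    rw [matM_mulVec_matK, map_smul, opM_apply, opN_apply, hF, zero_add]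
    congr 1
    refine sub_eq_zero.1 ?_
    rw [show res hs P 0 (pG e P v) - res hs P (pG e P v) (pG e P v) = res hs P (-pG e P v) 0 by
      rw [sub_eq_iff_eq_add, ← res_add, neg_add_cancel, zero_add]]
    rw [res_eq_zero_iff]
    exact ⟨dvd_neg.2 h2, dvd_zero _⟩

lemma GoodPt.jordan_dl (hg : GoodPt p d e P) {y v : Cl d e → k}
    (hv : (matK hg.srt P).mulVec v = dl hg.srt P • v)
    (hy : (matK hg.srt P).mulVec y - dl hg.srt P • y = v) : v = 0 := by
  have hs := hg.srt
  have := hs.sum; have := hs.h01; have := hs.h12; have := hs.h23; have := hs.h0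
  obtain ⟨hF, hG2⟩ := (hg.eigen_dl_iff v).1 hv
  set δ := dl hs P with hδ
  have h1 : opM hs P v = δ • opN hs P y - δ • opM hs P y := by
    rw [← hy, map_sub, map_smul, matM_mulVec_matK]
  rw [opM_apply, opM_apply, opN_apply, hF, zero_add, ← res_smul, ← res_smul, mul_zero] at h1
  have h2 : res hs P (pG e P v + C δ * (pF e P y + pG e P y))
      (pG e P v + C δ * pF e P y) = 0 := by
    have e1 := res_add hs P (pG e P v + C δ * (pF e P y + pG e P y))
      (pG e P v + C δ * pF e P y) 0 (C δ * pG e P y)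
    rw [add_zero, add_assoc (pG e P v) (C δ * pF e P y), ← mul_add, res_add, h1,
      sub_add_cancel] at e1
    simpa using e1
  obtain ⟨-, h3⟩ := (res_eq_zero_iff _ _ _).1 h2
  let w : Cl d e → k := Sum.elim (fun m => δ * y (.inl m)) fun m => v (.inr m)
  have hwF : pF e P w = C δ * pF e P y := by rw [← pF_smul]; rfl
  have hwG : pG e P w = pG e P v := rfl
  refine eq_zero_of_pF_pG hF ?_
  by_contra hG
  rw [← hwF] at h3
  rcases eq_or_ne (pF e P w) 0 with hF' | hF'
  · rw [hF', add_zero] at h3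
    exact hG (eq_zero_of_dvd_three (i := 1) (j := 2) (l := 3) hg.inj (by decide)
      (by decide) (by decide) (natDegree_pG hs v) (by omega) (dvd_pG v) hG2 h3)
  rw [← hwG] at hG h3 hG2
  refine hg.no_coincidence (valid_of_rel hg.hp hg.he hs hg.inj hF' hG (α := 0) (β := 1) (γ := 1)
    (δ := 1) (Or.inr one_ne_zero) (Or.inl one_ne_zero) (by simpa using hG2)
    (by simpa [add_comm] using h3)) (α := 0) (β := 1) (Or.inr one_ne_zero) (i := 1) (j := 2)
    (by decide) ?_ ?_
  · simpa using dvd_pG w
  · simpa using hG2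

lemma dvd_pG_iff (hP : Function.Injective P) {j : Fin 4} (hj : (1 : Fin 4) ≠ j) (v : Cl d e → k) :
    (X - C (P j)) ^ e j ∣ pG e P v ↔ (X - C (P j)) ^ e j ∣ mkP fun m => v (.inr m) :=
  ⟨fun h => ((isCoprime_X_sub_C_of_isUnit_sub
    (sub_ne_zero.2 (hP.ne hj.symm)).isUnit).pow).dvd_of_dvd_mul_left h,
    fun h => dvd_mul_of_dvd_right h _⟩

lemma GoodPt.rootMultiplicity_zero (hg : GoodPt p d e P) :
    (chi hg.srt P).rootMultiplicity 0 = e 2 := by
  have hs := hg.srt
  have := hs.sum; have := hs.h01; have := hs.h12; have := hs.h23; have := hs.h0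
  let f : Module.End k (Cl d e → k) := Matrix.toLin' (matK hs P)
  have hf : ∀ v, f v = (matK hs P).mulVec v := fun v => Matrix.toLin'_apply _ _
  rw [chi, ← Matrix.charpoly_toLin', ← LinearMap.finrank_maxGenEigenspace_eq,
    maxGenEigenspace_eq_eigenspace f 0 fun y v hv hy => hg.jordan_zero
      (y := y) (by rw [← hf, hv, zero_smul]) (by simpa [hf] using hy)]
  let ι : (Fin (d + 1 - e 0) → k) × zeroVec (d + 1 - e 1) (P 3) (e 3) →ₗ[k] (Cl d e → k) :=
    { toFun := fun q => Sum.elim q.1 (q.2 : Fin (d + 1 - e 1) → k)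
      map_add' := fun q r => by funext c; rcases c with c | c <;> simp
      map_smul' := fun t q => by funext c; rcases c with c | c <;> simp }
  have hinj : Function.Injective ι := fun q r hqr => Prod.ext (funext fun m => congrFun hqr (.inl m))
    (Subtype.ext (funext fun m => congrFun hqr (.inr m)))
  have hr : LinearMap.range ι = Module.End.eigenspace f 0 := by
    ext v
    rw [Module.End.mem_eigenspace_iff, hf, zero_smul, hg.mulVec_eq_zero_iff,
      dvd_pG_iff hg.inj (by decide)]
    constructor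
    · rintro ⟨q, rfl⟩; exact q.2.2
    · exact fun hv => ⟨(fun m => v (.inl m), ⟨fun m => v (.inr m), hv⟩),
        funext fun c => by rcases c with c | c <;> rfl⟩
  rw [← hr, LinearMap.finrank_range_of_inj hinj, Module.finrank_prod, Module.finrank_fin_fun,
    finrank_zeroVec]
  omega

lemma GoodPt.rootMultiplicity_dl (hg : GoodPt p d e P) :
    (chi hg.srt P).rootMultiplicity (dl hg.srt P) = d + 1 - e 1 - e 2 := by
  have hs := hg.srt
  let f : Module.End k (Cl d e → k) := Matrix.toLin' (matK hs P)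
  have hf : ∀ v, f v = (matK hs P).mulVec v := fun v => Matrix.toLin'_apply _ _
  rw [chi, ← Matrix.charpoly_toLin', ← LinearMap.finrank_maxGenEigenspace_eq,
    maxGenEigenspace_eq_eigenspace f _ fun y v hv hy => hg.jordan_dl
      (y := y) (by rw [← hf]; exact hv) (by rw [← hf]; exact hy)]
  let ι : zeroVec (d + 1 - e 1) (P 2) (e 2) →ₗ[k] (Cl d e → k) :=
    { toFun := fun q => Sum.elim 0 (q : Fin (d + 1 - e 1) → k)
      map_add' := fun q r => by funext c; rcases c with c | c <;> simp
      map_smul' := fun t q => by funext c; rcases c with c | c <;> simp }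
  have hinj : Function.Injective ι := fun q r hqr =>
    Subtype.ext (funext fun m => congrFun hqr (.inr m))
  have hr : LinearMap.range ι = Module.End.eigenspace f (dl hs P) := by
    ext v
    rw [Module.End.mem_eigenspace_iff, hf, hg.eigen_dl_iff, dvd_pG_iff hg.inj (by decide)]
    constructor
    · rintro ⟨q, rfl⟩
      refine ⟨?_, q.2⟩
      rw [pF, show mkP (fun m => ι q (Sum.inl m)) = 0 by ext; simp [coeff_mkP, ι], mul_zero]
    · rintro ⟨hF, hv⟩
      refine ⟨⟨fun m => v (.inr m), hv⟩, funext fun c => ?_⟩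
      rcases c with c | c
      · rw [pF, mul_eq_zero, or_iff_right (pow_ne_zero _ (X_sub_C_ne_zero _))] at hF
        have := congrArg (fun q : k[X] => q.coeff c) hF
        simp [coeff_mkP] at this
        exact this.symm
      · rfl
  rw [← hr, LinearMap.finrank_range_of_inj hinj, finrank_zeroVec]

end GoodPoint

section Simple

variable {L : Type u} [Field L] {p d : ℕ} [CharP L p] {e : Fin 4 → ℕ} {P : Fin 4 → L}

omit [CharP L p] in
lemma prod_dvd_imp_zero (hP : Function.Injective P) {m : Fin 4 → ℕ} {S : L[X]}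
    (h : ∀ l, (X - C (P l)) ^ m l ∣ S) (hS : S.natDegree < ∑ l, m l) : S = 0 := by
  by_contra hS0
  have hd : ∏ l, (X - C (P l)) ^ m l ∣ S := Finset.prod_dvd_of_coprime (fun i _ j _ hij =>
    (isCoprime_X_sub_C_of_isUnit_sub (sub_ne_zero.2 (hP.ne hij)).isUnit).pow) fun l _ => h l
  have h1 := natDegree_le_of_dvd hd hS0
  rw [natDegree_prod _ _ fun l _ => pow_ne_zero _ (X_sub_C_ne_zero _)] at h1
  simp only [natDegree_pow, natDegree_X_sub_C, mul_one] at h1
  omega

omit [CharP L p] in
lemma natDegree_cross_le {A B F G : L[X]} (hA : A.natDegree ≤ d) (hB : B.natDegree ≤ d)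
    (hF : F.natDegree ≤ d) (hG : G.natDegree ≤ d) : (A * G - F * B).natDegree ≤ 2 * d := by
  refine (natDegree_sub_le _ _).trans (max_le ?_ ?_) <;> refine natDegree_mul_le.trans ?_ <;> omega

/-- an eigenvector away from the two exceptional eigenvalues gives a pencil -/
lemma valid_of_eigen (hp : p = 0 ∨ d < p) (he : WAdm p d e) (h : Sorted d e)
    (hP : Function.Injective P) (hd : dl h P ≠ 0) {x : L} (hx : x ≠ 0) (hxd : x ≠ dl h P)
    {v : Cl d e → L} (hv0 : v ≠ 0) (hv : (matK h P).mulVec v = x • v) :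
    Valid p d e P (pF e P v) (pG e P v) := by
  have := h.sum; have := h.h01; have := h.h12; have := h.h23; have := h.h0
  obtain ⟨h2, h3⟩ := rel_of_eigen h hd hx hv
  have ht : (1 - dl h P / x) ≠ 0 := by
    rw [sub_ne_zero]; exact fun hh => hxd ((div_eq_one_iff_eq hx).1 hh.symm).symm
  have hF : pF e P v ≠ 0 := fun hF => hv0 (by
    rw [hF, zero_add] at h2 h3
    exact eq_zero_of_pF_pG hF (eq_zero_of_dvd_three (i := 1) (j := 2) (l := 3) hP (by decide)
      (by decide) (by decide) (natDegree_pG h v) (by omega) (dvd_pG v) h2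
      ((isUnit_C.2 ht.isUnit).dvd_mul_left.1 h3)))
  have hG : pG e P v ≠ 0 := fun hG => hv0 (by
    rw [hG] at h2 h3
    rw [add_zero] at h2
    rw [mul_zero, add_zero] at h3
    exact eq_zero_of_pF_pG (eq_zero_of_dvd_three (i := 0) (j := 2) (l := 3) hP (by decide)
      (by decide) (by decide) (natDegree_pF h v) (by omega) (dvd_pF v) h2 h3) hG)
  exact valid_of_rel hp he h hP hF hG (α := 1) (β := 1) (γ := 1) (δ := 1 - dl h P / x)
    (Or.inl one_ne_zero) (Or.inl one_ne_zero) (by simpa using h2) (by simpa using h3)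

include p in
/-- uniqueness of the eigenvector -/
lemma eigen_unique (hp : p = 0 ∨ d < p) (he : WAdm p d e) (h : Sorted d e)
    (hP : Function.Injective P) (hd : dl h P ≠ 0) {x : L} (hx : x ≠ 0) (hxd : x ≠ dl h P)
    {v w : Cl d e → L} (hv0 : v ≠ 0) (hv : (matK h P).mulVec v = x • v)
    (hw : (matK h P).mulVec w = x • w) : ∃ c : L, w = c • v := by
  have hV := valid_of_eigen (p := p) hp he h hP hd hx hxd hv0 hv
  obtain ⟨a2, a3⟩ := rel_of_eigen h hd hx hv
  obtain ⟨b2, b3⟩ := rel_of_eigen h hd hx hw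
  have hN : pF e P w * pG e P v - pF e P v * pG e P w = 0 := by
    refine prod_dvd_imp_zero (m := e) hP (fun l => ?_) ?_
    · fin_cases l
      · exact dvd_sub (dvd_mul_of_dvd_left (dvd_pF w) _) (dvd_mul_of_dvd_left (dvd_pF v) _)
      · exact dvd_sub (dvd_mul_of_dvd_right (dvd_pG v) _) (dvd_mul_of_dvd_right (dvd_pG w) _)
      · have e1 : pF e P w * pG e P v - pF e P v * pG e P w =
            (pF e P w + pG e P w) * pG e P v - (pF e P v + pG e P v) * pG e P w := by ring
        rw [e1]
        exact dvd_sub (dvd_mul_of_dvd_left b2 _) (dvd_mul_of_dvd_left a2 _)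
      · have e1 : pF e P w * pG e P v - pF e P v * pG e P w =
            (pF e P w + C (1 - dl h P / x) * pG e P w) * pG e P v -
              (pF e P v + C (1 - dl h P / x) * pG e P v) * pG e P w := by ring
        rw [e1]
        exact dvd_sub (dvd_mul_of_dvd_left b3 _) (dvd_mul_of_dvd_left a3 _)
    · rw [Fin.sum_univ_four]
      have := natDegree_cross_le (natDegree_pF (P := P) h w) (natDegree_pG (P := P) h w)
        (natDegree_pF (P := P) h v) (natDegree_pG (P := P) h v)
      have := h.sum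
      omega
  obtain ⟨c, hc1, hc2⟩ := hV.eq_C_mul (natDegree_pF h w) (natDegree_pG h w) (sub_eq_zero.1 hN)
  refine ⟨c, sub_eq_zero.1 (eq_zero_of_pF_pG (P := P) ?_ ?_)⟩
  · have e1 := pF_add (e := e) P (w - c • v) (c • v)
    rw [sub_add_cancel, pF_smul] at e1
    rw [hc1] at e1
    simpa using e1
  · have e1 := pG_add (e := e) P (w - c • v) (c • v)
    rw [sub_add_cancel, pG_smul] at e1
    rw [hc2] at e1
    simpa using e1

variable {k : Type u} [Field k] [Algebra k L]

lemma pow_dvd_dmap_of_eq_zero (D : Derivation k L L) {a : L} (ha : D a = 0) {m : ℕ} {f : L[X]}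
    (h : (X - C a) ^ m ∣ f) : (X - C a) ^ m ∣ dmap D f := by
  obtain ⟨g, rfl⟩ := h
  cases m with
  | zero => simp
  | succ m =>
    rw [dmap_mul, dmap_X_sub_C_pow, ha, mul_zero, map_zero, zero_mul, zero_mul, zero_add]
    exact dvd_mul_right _ _

include p in
/-- no Jordan block at a point moving with the last marked point -/
lemma rootMultiplicity_le_one (hp : p = 0 ∨ d < p) (he : WAdm p d e) (h : Sorted d e)
    (hP : Function.Injective P) (hd : dl h P ≠ 0) (D : Derivation k L L)
    (hD : ∀ l : Fin 4, D (P l) = if l = 3 then 1 else 0)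
    {x : L} (hx : x ≠ 0) (hxd : x ≠ dl h P) : (chi h P).rootMultiplicity x ≤ 1 := by
  let f : Module.End L (Cl d e → L) := Matrix.toLin' (matK h P)
  have hf : ∀ v, f v = (matK h P).mulVec v := fun v => Matrix.toLin'_apply _ _
  rw [chi, ← Matrix.charpoly_toLin', ← LinearMap.finrank_maxGenEigenspace_eq,
    maxGenEigenspace_eq_eigenspace f x fun y v hv hy => ?_]
  · by_cases hbot : Module.End.eigenspace f x = ⊥
    · rw [hbot, finrank_bot]; exact Nat.zero_le 1
    · obtain ⟨v, hv, hv0⟩ := Submodule.exists_mem_ne_zero_of_ne_bot hbot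
      refine le_trans (Submodule.finrank_mono (t := Submodule.span L {v}) fun w hw => ?_)
        (finrank_span_singleton hv0).le
      rw [Module.End.mem_eigenspace_iff, hf] at hv hw
      obtain ⟨c, hc⟩ := eigen_unique (p := p) hp he h hP hd hx hxd hv0 hv hw
      exact Submodule.mem_span_singleton.2 ⟨c, hc.symm⟩
  by_contra hv0
  rw [hf] at hv hy
  have hV := valid_of_eigen (p := p) hp he h hP hd hx hxd hv0 hv
  obtain ⟨a2, a3⟩ := rel_of_eigen h hd hx hv
  set δ := dl h P with hδ
  set F := pF e P v with hFd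
  set G := pG e P v with hGd
  set t := 1 - δ / x with ht
  -- the relations of the second vector
  have h1 : opM h P v = δ • opN h P y - x • opM h P y := by
    rw [← hy, map_sub, map_smul, matM_mulVec_matK]
  rw [opM_apply, opM_apply, opN_apply, ← res_smul, ← res_smul, mul_zero] at h1
  have h2 : res h P (F + G + C x * (pF e P y + pG e P y))
      (F + G + C x * (pF e P y + pG e P y) - C δ * pG e P y) = 0 := by
    have e1 := res_add h P (F + G + C x * (pF e P y + pG e P y))
      (F + G + C x * (pF e P y + pG e P y) - C δ * pG e P y) 0 (C δ * pG e P y)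
    rw [add_zero, sub_add_cancel, res_add, h1, sub_add_cancel] at e1
    simpa using e1
  obtain ⟨h2a, h2b⟩ := (res_eq_zero_iff _ _ _).1 h2
  let r := x ^ 2 / δ
  set F₁ := C r * pF e P y with hF₁
  set G₁ := C r * pG e P y with hG₁
  have hc2 : (X - C (P 2)) ^ e 2 ∣ F₁ + G₁ := by
    rw [hF₁, hG₁, ← mul_add]
    refine dvd_mul_of_dvd_right ((isUnit_C.2 hx.isUnit).dvd_mul_left.1 ?_) _
    exact (dvd_add_right a2).1 h2a
  have hc3 : (X - C (P 3)) ^ e 3 ∣ F₁ + C t * G₁ + G := by
    refine (isUnit_C.2 (div_ne_zero hd hx).isUnit).dvd_mul_left.1 ?_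
    have hxr : C (δ / x) * C r = (C x : L[X]) := by
      rw [← map_mul]; congr 1; simp only [r]; field_simp
    have hxt : C x * C t = (C x - C δ : L[X]) := by
      rw [← map_mul, ← map_sub]; congr 1; rw [ht, mul_sub, mul_one, mul_div_cancel₀ _ hx]
    have htd : C t = (1 - C (δ / x) : L[X]) := by rw [ht, map_sub, map_one]
    have e1 : C (δ / x) * (F₁ + C t * G₁ + G) =
        (F + G + C x * (pF e P y + pG e P y) - C δ * pG e P y) - (F + C t * G) := by
      rw [hF₁, hG₁]
      linear_combination (pF e P y + C t * pG e P y) * hxr + (pG e P y) * hxt + G * htd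
    rw [e1]
    exact dvd_sub h2b a3
  -- the first-order motion
  set dF := dmap D F - C (D t) * F₁ with hdF
  set dG := dmap D G - C (D t) * G₁ with hdG
  have hr0 : (X - C (P 0)) ^ e 0 ∣ dF := dvd_sub
    (pow_dvd_dmap_of_eq_zero D (by rw [hD]; simp) (dvd_pF v))
    (dvd_mul_of_dvd_right (dvd_mul_of_dvd_right (dvd_pF y) _) _)
  have hr1 : (X - C (P 1)) ^ e 1 ∣ dG := dvd_sub
    (pow_dvd_dmap_of_eq_zero D (by rw [hD]; simp) (dvd_pG v))
    (dvd_mul_of_dvd_right (dvd_mul_of_dvd_right (dvd_pG y) _) _)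
  have hr2 : (X - C (P 2)) ^ e 2 ∣ dF + dG := by
    have e1 : dF + dG = dmap D (F + G) - C (D t) * (F₁ + G₁) := by rw [dmap_add, hdF, hdG]; ring
    rw [e1]
    exact dvd_sub (pow_dvd_dmap_of_eq_zero D (by rw [hD]; simp) a2) (dvd_mul_of_dvd_right hc2 _)
  obtain ⟨m, hm⟩ : ∃ m, e 3 = m + 1 := ⟨e 3 - 1, by have := h.h3; omega⟩
  obtain ⟨g, hg⟩ := a3
  have hr3 : dF + C t * dG = C (-((m + 1 : ℕ) : L)) * (X - C (P 3)) ^ m * g +
      (X - C (P 3)) ^ e 3 * dmap D g - C (D t) * (F₁ + C t * G₁ + G) := by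
    have e1 := congrArg (dmap D) hg
    rw [dmap_add, dmap_mul, dmap_C, dmap_mul, hm, dmap_X_sub_C_pow, hD, if_pos rfl, mul_one] at e1
    rw [hm, hdF, hdG]
    linear_combination e1
  have hr3' : (X - C (P 3)) ^ m ∣ dF + C t * dG := by
    rw [hr3, hm, pow_succ]
    refine dvd_sub (dvd_add (dvd_mul_of_dvd_left (dvd_mul_left _ _) _)
      (dvd_mul_of_dvd_left (dvd_mul_right _ _) _)) (dvd_mul_of_dvd_right ?_ _)
    rw [hm, pow_succ] at hc3
    exact (dvd_mul_right _ _).trans hc3
  have hNdeg : (dF * G - F * dG).natDegree ≤ 2 * d := by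
    refine natDegree_cross_le ?_ ?_ hV.degF hV.degG
    · exact (natDegree_sub_le _ _).trans (max_le ((natDegree_dmap_le D F).trans hV.degF)
        ((natDegree_C_mul_le _ _).trans ((natDegree_C_mul_le _ _).trans (natDegree_pF h y))))
    · exact (natDegree_sub_le _ _).trans (max_le ((natDegree_dmap_le D G).trans hV.degG)
        ((natDegree_C_mul_le _ _).trans ((natDegree_C_mul_le _ _).trans (natDegree_pG h y))))
  have hN : dF * G - F * dG = 0 := by
    refine prod_dvd_imp_zero (m := fun l => if l = 3 then m else e l) hP (fun l => ?_) ?_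
    · fin_cases l
      · exact dvd_sub (dvd_mul_of_dvd_left (by simpa using hr0) _)
          (dvd_mul_of_dvd_left (by simpa using dvd_pF v) _)
      · exact dvd_sub (dvd_mul_of_dvd_right (by simpa using dvd_pG v) _)
          (dvd_mul_of_dvd_right (by simpa using hr1) _)
      · have e1 : dF * G - F * dG = (dF + dG) * G - (F + G) * dG := by ring
        rw [e1]
        exact dvd_sub (dvd_mul_of_dvd_left (by simpa using hr2) _)
          (dvd_mul_of_dvd_left (by simpa using a2) _)
      · have e1 : dF * G - F * dG = (dF + C t * dG) * G - (F + C t * G) * dG := by ring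
        rw [e1]
        refine dvd_sub (dvd_mul_of_dvd_left (by simpa using hr3') _) (dvd_mul_of_dvd_left ?_ _)
        rw [hg, hm]
        simpa [pow_succ, mul_assoc] using dvd_mul_right ((X - C (P 3)) ^ m) _
    · rw [Fin.sum_univ_four]
      simp only [Fin.reduceEq, if_true, if_false]
      have := h.sum
      omega
  obtain ⟨c, hc1, hc2'⟩ := hV.eq_C_mul
    ((natDegree_sub_le _ _).trans (max_le ((natDegree_dmap_le D F).trans hV.degF)
        ((natDegree_C_mul_le _ _).trans ((natDegree_C_mul_le _ _).trans (natDegree_pF h y)))))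
    ((natDegree_sub_le _ _).trans (max_le ((natDegree_dmap_le D G).trans hV.degG)
        ((natDegree_C_mul_le _ _).trans ((natDegree_C_mul_le _ _).trans (natDegree_pG h y)))))
    (sub_eq_zero.1 hN)
  have hdiv : (X - C (P 3)) ^ e 3 ∣ C (-((m + 1 : ℕ) : L)) * (X - C (P 3)) ^ m * g := by
    have e1 : C (-((m + 1 : ℕ) : L)) * (X - C (P 3)) ^ m * g =
        C c * (F + C t * G) + C (D t) * (F₁ + C t * G₁ + G) - (X - C (P 3)) ^ e 3 * dmap D g := by
      have := hr3
      rw [show dF = C c * F from hc1, show dG = C c * G from hc2'] at this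
      linear_combination -this
    rw [e1, hg]
    exact dvd_sub (dvd_add (dvd_mul_of_dvd_right (dvd_mul_right _ _) _)
      (dvd_mul_of_dvd_right hc3 _)) (dvd_mul_right _ _)
  rw [hm, pow_succ, mul_comm (C _) ((X - C (P 3)) ^ m), mul_assoc,
    mul_dvd_mul_iff_left (pow_ne_zero _ (X_sub_C_ne_zero _)), dvd_iff_isRoot, IsRoot.def,
    eval_mul, eval_C, mul_eq_zero, neg_eq_zero] at hdiv
  rcases hdiv with hz | hz
  · rw [CharP.cast_eq_zero_iff L p, ← hm] at hz
    exact (he.1 3).2 hz
  · refine hV.exact 3 ?_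
    have hs : (X - C (P 3)) ^ (e 3 + 1) ∣ C 1 * F + C t * G := by
      rw [map_one, one_mul, hg, pow_succ]
      exact mul_dvd_mul_left _ (dvd_iff_isRoot.2 hz)
    simpa using pow_dvd_wronskian_of_comb (Or.inl one_ne_zero) hs

end Simple

section Main4

variable {k : Type u} [Field k] [IsAlgClosed k] {p : ℕ} [CharP k p] {d : ℕ} {e : Fin 4 → ℕ}

lemma exists_derivation {R : Type u} (F : Type u) [CommRing R] [Field F] [Algebra R F] [Algebra k R]
    [Algebra k F] [IsScalarTower k R F] [Algebra.FormallyEtale R F] (D : Derivation k R R) :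
    ∃ D' : Derivation k F F, ∀ r, D' (algebraMap R F r) = algebraMap R F (D r) := by
  let d₀ : Derivation k R F := (Algebra.linearMap R F).compDer D
  let l := d₀.liftKaehlerDifferential
  let E := KaehlerDifferential.tensorKaehlerEquivOfFormallyEtale k R F
  refine ⟨KaehlerDifferential.linearMapEquivDerivation k F
    ((l.liftBaseChange F).comp E.symm.toLinearMap), fun r => ?_⟩
  show l.liftBaseChange F (E.symm (KaehlerDifferential.D k F (algebraMap R F r))) = _
  rw [KaehlerDifferential.tensorKaehlerEquivOfFormallyEtale_symm_D_algebraMap]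
  simp [l, d₀]

/-- the count for four sorted points in small degree -/
theorem count_four (hp : p = 0 ∨ d < p) (he : WAdm p d e) (h : Sorted d e) :
    HasGenericCount (k := k) d e (e 3 - (d + 1 - e 1 - e 2)) := by
  classical
  have hsum := h.sum; have := h.h01; have := h.h12; have := h.h23; have := h.h0
  set k₀ := d + 1 - e 1 - e 2 with hk₀
  set N := e 3 - k₀ with hNdef
  have hk₀e : k₀ ≤ e 3 := by omega
  obtain ⟨Φ₀, hΦ₀, hgen⟩ := exists_generic_all (k := k) he
  let R := MvPolynomial (Fin 4) k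
  let Pu : Fin 4 → R := MvPolynomial.X
  have hev : ∀ P : Fin 4 → k, (MvPolynomial.eval P : R →+* k) ∘ Pu = P := fun P => by
    funext l; simp [Pu]
  have hgood : ∀ P, MvPolynomial.eval P Φ₀ ≠ 0 → GoodPt p d e P := fun P hP =>
    ⟨hp, he, h, (hgen P hP).1, (hgen P hP).2.2⟩
  have hdl : ∀ P, MvPolynomial.eval P (dl h Pu) = dl h P := fun P => by rw [map_dl, hev]
  have hchi : ∀ P, (chi h Pu).map (MvPolynomial.eval P) = chi h P := fun P => by rw [map_chi, hev]
  obtain ⟨P₀, hP₀⟩ : ∃ P, MvPolynomial.eval P Φ₀ ≠ 0 := by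
    by_contra hc
    push Not at hc
    exact hΦ₀ (MvPolynomial.funext fun P => by simp [hc P])
  have hdl0 : dl h Pu ≠ 0 := fun h0 => (hgood P₀ hP₀).dl_ne_zero (by rw [← hdl, h0, map_zero])
  let A : R[X] := X ^ e 2 * (X - C (dl h Pu)) ^ k₀
  have hA : A.Monic := (monic_X_pow _).mul ((monic_X_sub_C _).pow _)
  have hAP : ∀ P, A.map (MvPolynomial.eval P) = X ^ e 2 * (X - C (dl h P)) ^ k₀ := fun P => by
    simp only [A, Polynomial.map_mul, Polynomial.map_pow, Polynomial.map_sub, map_X, map_C, hdl]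
  have hdvd : A ∣ chi h Pu := by
    rw [← modByMonic_eq_zero_iff_dvd hA]
    ext i : 1
    rw [coeff_zero]
    refine (mul_eq_zero.1 (MvPolynomial.funext (p := (chi h Pu %ₘ A).coeff i * Φ₀) (q := 0)
      fun P => ?_)).resolve_right hΦ₀
    rw [map_mul, map_zero, mul_eq_zero, or_iff_not_imp_right]
    intro hP
    rw [← coeff_map, map_modByMonic _ hA, hchi, hAP]
    have hg := hgood P hP
    have hd : (X ^ e 2 * (X - C (dl h P)) ^ k₀) ∣ chi h P := by
      refine IsCoprime.mul_dvd ?_ ?_ ?_
      · have := (isCoprime_X_sub_C_of_isUnit_sub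
          (show IsUnit ((0 : k) - dl h P) by simpa using hg.dl_ne_zero)).pow (m := e 2) (n := k₀)
        simpa using this
      · simpa using (le_rootMultiplicity_iff (monic_chi h P).ne_zero).1 hg.rootMultiplicity_zero.ge
      · exact (le_rootMultiplicity_iff (monic_chi h P).ne_zero).1 hg.rootMultiplicity_dl.ge
    rw [(modByMonic_eq_zero_iff_dvd ((monic_X_pow _).mul ((monic_X_sub_C _).pow _))).2 hd, coeff_zero]
  obtain ⟨Q, hQ⟩ := hdvd
  have hQm : Q.Monic := hA.of_mul_monic_left (hQ ▸ monic_chi h Pu)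
  have hQd : Q.natDegree = N := by
    have := natDegree_chi h Pu
    rw [hQ, hA.natDegree_mul hQm] at this
    have hAd : A.natDegree = e 2 + k₀ := by
      simp only [A]
      rw [(monic_X_pow _).natDegree_mul ((monic_X_sub_C _).pow _), natDegree_X_pow,
        (monic_X_sub_C _).natDegree_pow, natDegree_X_sub_C, mul_one]
    omega
  have hQP : ∀ P, chi h P = X ^ e 2 * (X - C (dl h P)) ^ k₀ * Q.map (MvPolynomial.eval P) :=
    fun P => by rw [← hchi, hQ, Polynomial.map_mul, hAP]
  have hQne : ∀ P, MvPolynomial.eval P Φ₀ ≠ 0 →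
      ¬ (Q.map (MvPolynomial.eval P)).IsRoot 0 ∧
      ¬ (Q.map (MvPolynomial.eval P)).IsRoot (dl h P) := by
    intro P hP
    have hg := hgood P hP
    have h0 := hg.rootMultiplicity_zero
    have h1 := hg.rootMultiplicity_dl
    have hne : X ^ e 2 * (X - C (dl h P)) ^ k₀ * Q.map (MvPolynomial.eval P) ≠ 0 :=
      hQP P ▸ (monic_chi h P).ne_zero
    rw [hQP P, rootMultiplicity_mul hne, rootMultiplicity_mul (left_ne_zero_of_mul hne)] at h0 h1
    have hQ0 := right_ne_zero_of_mul hne
    constructor <;> intro hr <;> have := (rootMultiplicity_pos hQ0).2 hr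
    · have e1 : rootMultiplicity (0 : k) (X ^ e 2 : k[X]) = e 2 := by
        simpa using rootMultiplicity_X_sub_C_pow (0 : k) (e 2)
      omega
    · rw [rootMultiplicity_X_sub_C_pow] at h1
      omega
  let Res := resultant Q (derivative Q) N N
  have hRes : Res ≠ 0 := by
    intro hR0
    let F := FractionRing R
    let Ω := AlgebraicClosure F
    let φ : R →+* Ω := (algebraMap F Ω).comp (algebraMap R F)
    have hφ : Function.Injective φ :=
      (algebraMap F Ω).injective.comp (IsFractionRing.injective R F)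
    have hQΩd : (Q.map φ).natDegree = N := by rw [hQm.natDegree_map, hQd]
    have hncop : ¬ IsCoprime (Q.map φ) (derivative (Q.map φ)) := by
      rw [isCoprime_iff_resultant (d := N) hQΩd.le
        ((natDegree_derivative_le _).trans (by omega))
        (Or.inl (by rw [← hQΩd, ← leadingCoeff, (hQm.map φ).leadingCoeff])), not_not,
        derivative_map, resultant_map_map]
      exact (congrArg φ hR0).trans (map_zero φ)
    obtain ⟨x, hx1, hx2⟩ : ∃ x : Ω, (Q.map φ).eval x = 0 ∧ (derivative (Q.map φ)).eval x = 0 := by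
      by_contra hc
      push Not at hc
      refine hncop ((Polynomial.isCoprime_iff_aeval_ne_zero_of_isAlgClosed Ω Ω _ _).2 fun a => ?_)
      simp only [coe_aeval_eq_eval]
      exact or_iff_not_imp_left.2 fun ha => hc a (not_not.1 ha)
    let QF := Q.map (algebraMap R F)
    have hQF : QF.map (algebraMap F Ω) = Q.map φ := Polynomial.map_map _ _ _
    have hroot : aeval x QF = 0 := by rw [aeval_def, ← eval_map, hQF, hx1]
    have hint : IsIntegral F x := ⟨QF, hQm.map _, by rw [← aeval_def]; exact hroot⟩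
    haveI : CharP F p := charP_of_injective_algebraMap (algebraMap k F).injective p
    have hsep : IsSeparable F x := by
      have hirr := minpoly.irreducible hint
      refine (separable_iff_derivative_ne_zero hirr).2 fun h0 => ?_
      have hle := natDegree_le_of_dvd (minpoly.dvd F x hroot) (hQm.map _).ne_zero
      rw [hQm.natDegree_map, hQd] at hle
      have hpd := minpoly.natDegree_pos hint
      have := natDegree_eq_zero_of_derivative (p := p)
        (hp.imp_right fun hp' => by omega) h0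
      omega
    let L := IntermediateField.adjoin F ({x} : Set Ω)
    haveI : Algebra.IsSeparable F L :=
      (IntermediateField.isSeparable_adjoin_simple_iff_isSeparable F Ω).2 hsep
    haveI : Algebra.FormallyEtale F L := Algebra.FormallyEtale.of_isSeparable F L
    haveI : Algebra.FormallyEtale R F :=
      Algebra.FormallyEtale.of_isLocalization (nonZeroDivisors R)
    haveI : Algebra.FormallyEtale R L := Algebra.FormallyEtale.comp R F L
    haveI : CharP L p := charP_of_injective_algebraMap (algebraMap k L).injective p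
    haveI : IsScalarTower k R L := IsScalarTower.of_algebraMap_eq fun r => by
      rw [IsScalarTower.algebraMap_apply R F L, ← IsScalarTower.algebraMap_apply k R F,
        ← IsScalarTower.algebraMap_apply k F L]
    obtain ⟨D, hD⟩ := exists_derivation (k := k) L (MvPolynomial.pderiv (3 : Fin 4) : Derivation k R R)
    let ψ : R →+* L := algebraMap R L
    have hψ : Function.Injective ψ := by
      have : ψ = (algebraMap F L).comp (algebraMap R F) := IsScalarTower.algebraMap_eq R F L
      rw [this]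
      exact (algebraMap F L).injective.comp (IsFractionRing.injective R F)
    let P : Fin 4 → L := ψ ∘ Pu
    have hP : Function.Injective P := hψ.comp MvPolynomial.X_injective
    have hd : dl h P ≠ 0 := by
      rw [← map_dl]; exact (map_ne_zero_iff ψ hψ).2 hdl0
    have hDP : ∀ l : Fin 4, D (P l) = if l = 3 then 1 else 0 := fun l => by
      rw [show P l = algebraMap R L (MvPolynomial.X l) from rfl, hD, MvPolynomial.pderiv_X,
        Pi.single_apply]
      split_ifs <;> simp
    let x' : L := ⟨x, IntermediateField.mem_adjoin_simple_self F x⟩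
    have hval : (algebraMap L Ω).comp ψ = φ := by
      ext r <;> rfl
    have hr1 : (Q.map ψ).IsRoot x' := by
      refine (algebraMap L Ω).injective ?_
      rw [map_zero, ← eval_map_apply, Polynomial.map_map, hval]
      exact hx1
    have hr2 : (derivative (Q.map ψ)).IsRoot x' := by
      refine (algebraMap L Ω).injective ?_
      rw [map_zero, ← eval_map_apply, ← derivative_map, Polynomial.map_map, hval]
      exact hx2
    obtain ⟨hn0, hnd⟩ := hQne P₀ hP₀
    have hx0 : x' ≠ 0 := by
      intro hx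
      apply hn0
      rw [hx, IsRoot.def, ← map_zero ψ, eval_map_apply] at hr1
      rw [IsRoot.def, ← map_zero (MvPolynomial.eval P₀), eval_map_apply, hψ hr1]
    have hxd : x' ≠ dl h P := by
      intro hx
      apply hnd
      rw [hx, ← map_dl, IsRoot.def, eval_map_apply, ← map_zero ψ] at hr1
      rw [IsRoot.def, ← hdl, eval_map_apply, hψ hr1, map_zero]
    have hle := rootMultiplicity_le_one (k := k) hp he h hP hd D hDP hx0 hxd
    have hchiL : chi h P = A.map ψ * Q.map ψ := by rw [← Polynomial.map_mul, ← hQ, map_chi]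
    have hne : A.map ψ * Q.map ψ ≠ 0 := hchiL ▸ (monic_chi h P).ne_zero
    rw [hchiL, rootMultiplicity_mul hne] at hle
    have := (one_lt_rootMultiplicity_iff_isRoot (right_ne_zero_of_mul hne)).2 ⟨hr1, hr2⟩
    omega
  refine ⟨Φ₀ * Res, mul_ne_zero hΦ₀ hRes, fun P hP => ?_⟩
  rw [map_mul, mul_ne_zero_iff] at hP
  obtain ⟨hinj, hfin, hsep'⟩ := hgen P hP.1
  have hg := hgood P hP.1
  refine ⟨hfin, ?_⟩
  obtain ⟨hn0, hnd⟩ := hQne P hP.1
  set QP := Q.map (MvPolynomial.eval P) with hQPdef
  have hQPm : QP.Monic := hQm.map _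
  have hQPd : QP.natDegree = N := by rw [hQPdef, hQm.natDegree_map, hQd]
  have hsepQ : QP.Separable := by
    rw [separable_def, isCoprime_iff_resultant (d := N) hQPd.le
      ((natDegree_derivative_le _).trans (by omega))
      (Or.inl (by rw [← hQPd, ← leadingCoeff, hQPm.leadingCoeff])), hQPdef, derivative_map,
      resultant_map_map]
    exact hP.2
  have hcard : QP.roots.toFinset.card = N := by
    rw [Multiset.toFinset_card_of_nodup (nodup_roots hsepQ),
      ← (IsAlgClosed.splits QP).natDegree_eq_card_roots, hQPd]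
  let T := {x : k // x ∈ QP.roots.toFinset}
  have hT : ∀ x : T, x.1 ≠ 0 ∧ x.1 ≠ dl h P ∧
      ∃ v : Cl d e → k, v ≠ 0 ∧ (matK h P).mulVec v = x.1 • v := by
    intro x
    have hx : QP.IsRoot x.1 := (mem_roots hQPm.ne_zero).1 (Multiset.mem_toFinset.1 x.2)
    refine ⟨fun hh => hn0 (hh ▸ hx), fun hh => hnd (hh ▸ hx), ?_⟩
    have hev' : Module.End.HasEigenvalue (Matrix.toLin' (matK h P)) x.1 := by
      rw [Module.End.hasEigenvalue_iff_isRoot_charpoly, Matrix.charpoly_toLin']
      show (chi h P).IsRoot x.1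
      rw [hQP P, IsRoot.def, eval_mul, hx.eq_zero, mul_zero]
    obtain ⟨v, hv⟩ := hev'.exists_hasEigenvector
    exact ⟨v, hv.2, by simpa [Matrix.toLin'_apply] using hv.apply_eq_smul⟩
  choose hx0 hxd v hv0 hv using hT
  have hVal : ∀ x, Valid p d e P (pF e P (v x)) (pG e P (v x)) := fun x =>
    valid_of_eigen hp he h hinj hg.dl_ne_zero (hx0 x) (hxd x) (hv0 x) (hv x)
  let f : T → ramMaps d P e := fun x => ⟨_, (hVal x).mem_ramMaps⟩
  have hroot : ∀ {l : Fin 4} {S : k[X]}, (X - C (P l)) ^ e l ∣ S → S.IsRoot (P l) := fun {l} {S} hS =>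
    dvd_iff_isRoot.1 ((dvd_pow_self _ (by have := (he.1 l).1; omega)).trans hS)
  have hbij : Function.Bijective f := by
    constructor
    · intro x y hxy
      have hspan : Submodule.span k {pF e P (v x), pG e P (v x)} =
          Submodule.span k {pF e P (v y), pG e P (v y)} := congrArg Subtype.val hxy
      have hVx := hVal x
      obtain ⟨a2, a3⟩ := rel_of_eigen h hg.dl_ne_zero (hx0 x) (hv x)
      obtain ⟨b2, b3⟩ := rel_of_eigen h hg.dl_ne_zero (hx0 y) (hv y)
      have hprop : ∀ (l : Fin 4) (S S' : k[X]), S ∈ Submodule.span k {pF e P (v x), pG e P (v x)} →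
          S ≠ 0 → S' ∈ Submodule.span k {pF e P (v x), pG e P (v x)} →
          S.IsRoot (P l) → S'.IsRoot (P l) → ∃ c : k, S' = C c * S := by
        intro l S S' hS hS0 hS' hr hr'
        obtain ⟨c, hc⟩ := eq_smul_of_eval_eq_zero hVx.cop hS hr
        obtain ⟨c', hc'⟩ := eq_smul_of_eval_eq_zero hVx.cop hS' hr'
        have hc0 : c ≠ 0 := fun hh => hS0 (by rw [hc, hh, map_zero, zero_mul])
        refine ⟨c' / c, ?_⟩
        conv_lhs => rw [hc']
        conv_rhs => rw [hc]
        rw [← mul_assoc, ← map_mul, div_mul_cancel₀ _ hc0]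
      set F := pF e P (v x) with hFdef
      set G := pG e P (v x) with hGdef
      have hind := LinearIndependent.pair_iff.1 hVx.ind
      have mF : F ∈ Submodule.span k {F, G} := Submodule.subset_span (by simp)
      have mG : G ∈ Submodule.span k {F, G} := Submodule.subset_span (by simp)
      have mF' : pF e P (v y) ∈ Submodule.span k {F, G} := hspan ▸ Submodule.subset_span (by simp)
      have mG' : pG e P (v y) ∈ Submodule.span k {F, G} := hspan ▸ Submodule.subset_span (by simp)
      have hF0 : F ≠ 0 := hVx.ind.ne_zero 0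
      have hG0 : G ≠ 0 := hVx.ind.ne_zero 1
      obtain ⟨c, hc⟩ := hprop 0 F _ mF hF0 mF' (hroot (dvd_pF _)) (hroot (dvd_pF _))
      obtain ⟨c', hc'⟩ := hprop 1 G _ mG hG0 mG' (hroot (dvd_pG _)) (hroot (dvd_pG _))
      have hFG0 : F + G ≠ 0 := fun hh => one_ne_zero (hind 1 1 (by simpa using hh)).1
      obtain ⟨w, hw⟩ := hprop 2 (F + G) _ (add_mem mF mG) hFG0 (add_mem mF' mG') (hroot a2) (hroot b2)
      rw [hc, hc'] at hw
      obtain ⟨hw1, hw2⟩ := hind (c - w) (c' - w) (by
        rw [smul_eq_C_mul, smul_eq_C_mul, map_sub, map_sub]; linear_combination hw)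
      rw [sub_eq_zero] at hw1 hw2
      rw [hw2, ← hw1] at hc'
      set t := 1 - dl h P / x.1 with ht
      set t' := 1 - dl h P / y.1 with ht'
      have hw0 : c ≠ 0 := fun hh => hv0 y (eq_zero_of_pF_pG (P := P) (by rw [hc, hh]; simp) (by rw [hc', hh]; simp))
      have mFt : ∀ s : k, F + C s * G ∈ Submodule.span k {F, G} := fun s =>
        Submodule.mem_span_pair.2 ⟨1, s, by simp [smul_eq_C_mul]⟩
      have hFt0 : F + C t * G ≠ 0 := fun hh => one_ne_zero (hind 1 t (by
        simpa [smul_eq_C_mul] using hh)).1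
      have b3' : (X - C (P 3)) ^ e 3 ∣ F + C t' * G := by
        refine (isUnit_C.2 hw0.isUnit).dvd_mul_left.1 ?_
        rw [mul_add, ← hc, mul_left_comm, ← hc']
        exact b3
      obtain ⟨r, hr⟩ := hprop 3 (F + C t * G) _ (mFt t) hFt0 (mFt t') (hroot a3) (hroot b3')
      obtain ⟨h1', h2'⟩ := hind (1 - r) (t' - r * t) (by
        rw [smul_eq_C_mul, smul_eq_C_mul, map_sub, map_sub, map_mul, map_one]; linear_combination hr)
      have htt : t = t' := by linear_combination -h2' + t * h1'
      have e1 : dl h P / x.1 = dl h P / y.1 := by linear_combination -htt + ht - ht'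
      refine Subtype.ext ?_
      rw [div_eq_div_iff (hx0 x) (hx0 y)] at e1
      exact (mul_left_cancel₀ hg.dl_ne_zero e1).symm
    · rintro ⟨V, hV⟩
      obtain ⟨F₀, G₀, hVeq, hF₀, hG₀, -, hcop, hW₀, hram⟩ :=
        exists_basis hV (fun l => (he.1 l).1)
      let s : Fin 4 → k[X] := fun l => C (G₀.eval (P l)) * F₀ - C (F₀.eval (P l)) * G₀
      have hs : ∀ l, (X - C (P l)) ^ e l ∣ s l ∧ s l ∈ V ∧ s l ≠ 0 := by
        intro l
        refine ⟨hram l, ?_, fun h0 => ?_⟩
        · rw [hVeq]
          exact Submodule.mem_span_pair.2 ⟨G₀.eval (P l), -F₀.eval (P l), by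
            rw [smul_eq_C_mul, smul_eq_C_mul, map_neg]; ring⟩
        · have := LinearIndependent.pair_iff.1 (indep_of_wronskian_ne_zero hW₀) (G₀.eval (P l))
            (-F₀.eval (P l)) (by rw [← h0, smul_eq_C_mul, smul_eq_C_mul, map_neg]; ring)
          rcases eval_ne_zero_of_isCoprime hcop (P l) with hu | hv'
          · exact hu (neg_eq_zero.1 this.2)
          · exact hv' this.1
      have hsep2 : ∀ i j, i ≠ j → ∀ S ∈ V, S ≠ 0 → S.IsRoot (P i) → S.IsRoot (P j) → False :=
        fun i j hij S hS hS0 a b => hS0 (hsep' V hV i j hij S hS ⟨a, b⟩)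
      have hind : LinearIndependent k ![s 0, s 1] := indep_of_eval (P 1)
        (fun hh => hsep2 0 1 (by decide) _ (hs 0).2.1 (hs 0).2.2 (hroot (hs 0).1) hh) (hs 1).2.2
        (hroot (hs 1).1)
      have hV01 := eq_span_pair hV.1.2.1 (hs 0).2.1 (hs 1).2.1 hind
      obtain ⟨α, β, h2⟩ := Submodule.mem_span_pair.1 (hV01 ▸ (hs 2).2.1 : s 2 ∈ Submodule.span k {s 0, s 1})
      obtain ⟨γ, δ', h3⟩ := Submodule.mem_span_pair.1 (hV01 ▸ (hs 3).2.1 : s 3 ∈ Submodule.span k {s 0, s 1})
      have hmul : ∀ {l i : Fin 4} {c : k}, l ≠ i → c • s i = s l → False := by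
        intro l i c hli hc
        have hc0 : c ≠ 0 := fun hh => (hs l).2.2 (by rw [← hc, hh, zero_smul])
        refine hsep2 i l hli.symm _ (hs i).2.1 (hs i).2.2 (hroot (hs i).1) ?_
        have := hroot (hs l).1
        rw [← hc] at this
        simpa [hc0] using this
      have hα : α ≠ 0 := fun hh => hmul (show (2 : Fin 4) ≠ 1 by decide) (by simpa [hh] using h2)
      have hβ : β ≠ 0 := fun hh => hmul (show (2 : Fin 4) ≠ 0 by decide) (by simpa [hh] using h2)
      have hγ : γ ≠ 0 := fun hh => hmul (show (3 : Fin 4) ≠ 1 by decide) (by simpa [hh] using h3)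
      have hδ : δ' ≠ 0 := fun hh => hmul (show (3 : Fin 4) ≠ 0 by decide) (by simpa [hh] using h3)
      obtain ⟨f₀, hf₀⟩ := (hs 0).1
      obtain ⟨g₀, hg₀⟩ := (hs 1).1
      have hlt : ∀ (l : Fin 4) (q : k[X]), s l = (X - C (P l)) ^ e l * q →
          q = 0 ∨ q.natDegree < d + 1 - e l := by
        intro l q hq
        refine or_iff_not_imp_left.2 fun hq0 => ?_
        have hd' := mem_degreeLE_iff.1 (hV.1.1 (hs l).2.1)
        rw [hq, natDegree_mul (pow_ne_zero _ (X_sub_C_ne_zero _)) hq0, natDegree_pow,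
          natDegree_X_sub_C, mul_one] at hd'
        omega
      let w : Cl d e → k := Sum.elim (fun m => α * f₀.coeff m) fun m => β * g₀.coeff m
      have hwF : pF e P w = C α * s 0 := by
        rw [hf₀, pF, show mkP (fun m => w (Sum.inl m)) = C α * f₀ by
          rw [← mkP_coeff_of_lt (hlt 0 f₀ hf₀), ← mkP_smul]; rfl]
        rw [mul_left_comm]
      have hwG : pG e P w = C β * s 1 := by
        rw [hg₀, pG, show mkP (fun m => w (Sum.inr m)) = C β * g₀ by
          rw [← mkP_coeff_of_lt (hlt 1 g₀ hg₀), ← mkP_smul]; rfl]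
        rw [mul_left_comm]
      set t := α * δ' / (γ * β) with ht
      have hw2 : (X - C (P 2)) ^ e 2 ∣ pF e P w + pG e P w := by
        rw [hwF, hwG, ← smul_eq_C_mul, ← smul_eq_C_mul, h2]; exact (hs 2).1
      have hw3 : (X - C (P 3)) ^ e 3 ∣ pF e P w + C t * pG e P w := by
        have e1 : pF e P w + C t * pG e P w = C (α / γ) * s 3 := by
          have e2 : C (α / γ) * C γ = (C α : k[X]) := by rw [← map_mul]; congr 1; field_simp
          have e3 : C (α / γ) * C δ' = C t * (C β : k[X]) := by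
            rw [← map_mul, ← map_mul]; congr 1; rw [ht]; field_simp
          rw [hwF, hwG, ← h3, smul_eq_C_mul, smul_eq_C_mul]
          linear_combination (-(s 0)) * e2 - (s 1) * e3
        rw [e1]; exact dvd_mul_of_dvd_right (hs 3).1 _
      have hindw := LinearIndependent.pair_iff.1 hind
      have hw0 : w ≠ 0 := fun hh => by
        have : pF e P w = 0 := by
          rw [hh, pF, show mkP (fun m : Fin (d + 1 - e 0) => (0 : Cl d e → k) (Sum.inl m)) = 0 by
            ext; simp [coeff_mkP], mul_zero]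
        rw [hwF, mul_eq_zero, C_eq_zero] at this
        exact this.elim hα (hs 0).2.2
      have ht1 : t ≠ 1 := by
        intro ht1
        rw [ht1, map_one, one_mul] at hw3
        refine hsep2 2 3 (by decide) (pF e P w + pG e P w) ?_ ?_ (hroot hw2) (hroot hw3)
        · rw [hwF, hwG, ← smul_eq_C_mul, ← smul_eq_C_mul, h2]; exact (hs 2).2.1
        · rw [hwF, hwG, ← smul_eq_C_mul, ← smul_eq_C_mul, h2]; exact (hs 2).2.2
      have ht0 : t ≠ 0 := div_ne_zero (mul_ne_zero hα hδ) (mul_ne_zero hγ hβ)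
      set x := dl h P / (1 - t) with hxdef
      have h1t : (1 : k) - t ≠ 0 := sub_ne_zero.2 (Ne.symm ht1)
      have hxne : x ≠ 0 := div_ne_zero hg.dl_ne_zero h1t
      have hxdl : x ≠ dl h P := by
        intro hh
        rw [hxdef, div_eq_iff h1t] at hh
        have : dl h P * t = 0 := by linear_combination hh
        exact ht0 ((mul_eq_zero.1 this).resolve_left hg.dl_ne_zero)
      have hweig : (matK h P).mulVec w = x • w := by
        refine opM_injective h hg.dl_ne_zero ?_
        rw [matM_mulVec_matK, map_smul, opM_apply, opN_apply, ← res_smul, ← res_smul]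
        refine sub_eq_zero.1 ?_
        have e1 := res_add h P (C (dl h P) * 0 - C x * (pF e P w + pG e P w))
          (C (dl h P) * pG e P w - C x * (pF e P w + pG e P w))
          (C x * (pF e P w + pG e P w)) (C x * (pF e P w + pG e P w))
        rw [sub_add_cancel, sub_add_cancel] at e1
        rw [e1, add_sub_cancel_right, res_eq_zero_iff]
        constructor
        · rw [mul_zero, zero_sub, dvd_neg]; exact dvd_mul_of_dvd_right hw2 _
        · have e2 : C x * C (1 - t) = (C (dl h P) : k[X]) := by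
            rw [← map_mul]; congr 1; rw [hxdef]; field_simp
          have e3 : C (dl h P) * pG e P w - C x * (pF e P w + pG e P w) =
              -(C x * (pF e P w + C t * pG e P w)) := by
            rw [map_sub, map_one] at e2
            linear_combination -(pG e P w) * e2
          rw [e3, dvd_neg]; exact dvd_mul_of_dvd_right hw3 _
      have hxroot : (chi h P).IsRoot x := by
        rw [chi, ← Matrix.charpoly_toLin', ← Module.End.hasEigenvalue_iff_isRoot_charpoly]
        exact Module.End.hasEigenvalue_of_hasEigenvector (x := w)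
          ⟨by rw [Module.End.mem_eigenspace_iff, Matrix.toLin'_apply, hweig], hw0⟩
      have hxQ : QP.IsRoot x := by
        rw [hQP P, IsRoot.def, eval_mul, eval_mul, mul_eq_zero, mul_eq_zero] at hxroot
        refine hxroot.resolve_left ?_
        simp [hxne, sub_ne_zero.2 hxdl]
      refine ⟨⟨x, Multiset.mem_toFinset.2 ((mem_roots hQPm.ne_zero).2 hxQ)⟩, Subtype.ext ?_⟩
      set xT : T := ⟨x, Multiset.mem_toFinset.2 ((mem_roots hQPm.ne_zero).2 hxQ)⟩ with hxT
      obtain ⟨c, hc⟩ := eigen_unique (p := p) hp he h hinj hg.dl_ne_zero (hx0 xT) (hxd xT) (hv0 xT)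
        (hv xT) (show (matK h P).mulVec w = xT.1 • w from hweig)
      have hVw : V = Submodule.span k {pF e P w, pG e P w} := by
        refine eq_span_pair hV.1.2.1 ?_ ?_ ?_
        · rw [hwF, ← smul_eq_C_mul]; exact V.smul_mem _ (hs 0).2.1
        · rw [hwG, ← smul_eq_C_mul]; exact V.smul_mem _ (hs 1).2.1
        · exact (valid_of_eigen (p := p) hp he h hinj hg.dl_ne_zero hxne hxdl hw0 hweig).ind
      show Submodule.span k {pF e P (v xT), pG e P (v xT)} = V
      have hc0 : c ≠ 0 := fun hh => hw0 (by rw [hc, hh, zero_smul])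
      rw [hVw, hc, pF_smul, pG_smul, ← smul_eq_C_mul, ← smul_eq_C_mul, Submodule.span_insert,
        Submodule.span_insert (c • pF e P (v xT)), Submodule.span_singleton_smul_eq hc0.isUnit,
        Submodule.span_singleton_smul_eq hc0.isUnit]
  rw [← Nat.card_congr (Equiv.ofBijective f hbij), Nat.card_eq_fintype_card, Fintype.card_coe,
    hcard]

end Main4

end Groth.Agent.RamP1
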