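import Groth.Agent.RamP1Lib.GenericFinite

/-!
The pencils with prescribed tame ramification at general points are finite in number and
separate the points.
-/

set_option autoImplicit false

universe u

namespace Groth.Agent.RamP1

open Polynomial W4c1limliniiii

/-- The polynomial with given coefficients. -/
noncomputable def mkP {R : Type*} [Semiring R] {m : ℕ} (f : Fin m → R) : R[X] :=
  ∑ i, C (f i) * X ^ (i : ℕ)

lemma coeff_mkP {R : Type*} [Semiring R] {m : ℕ} (f : Fin m → R) (i : ℕ) :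
    (mkP f).coeff i = if h : i < m then f ⟨i, h⟩ else 0 := by
  simp only [mkP, finsetSum_coeff, coeff_C_mul_X_pow]
  split_ifs with h
  · rw [Finset.sum_eq_single ⟨i, h⟩] <;> simp +contextual [Fin.ext_iff, eq_comm]
  · exact Finset.sum_eq_zero fun j _ => if_neg (by omega)

lemma natDegree_mkP {R : Type*} [Semiring R] {m : ℕ} (f : Fin (m + 1) → R) :
    (mkP f).natDegree ≤ m :=
  natDegree_le_iff_coeff_eq_zero.2 fun i hi => by rw [coeff_mkP, dif_neg (by omega)]

lemma map_mkP {R S : Type*} [Semiring R] [Semiring S] (φ : R →+* S) {m : ℕ} (f : Fin m → R) :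
    (mkP f).map φ = mkP (φ ∘ f) := by
  ext i
  simp only [coeff_map, coeff_mkP]
  split_ifs <;> simp

lemma mkP_coeff {R : Type*} [Semiring R] {m : ℕ} {F : R[X]} (hF : F.natDegree ≤ m) :
    mkP (fun i : Fin (m + 1) => F.coeff i) = F := by
  ext i
  rw [coeff_mkP]
  split_ifs with h
  · rfl
  · exact (coeff_eq_zero_of_natDegree_lt (by omega)).symm

lemma isCoprime_iff_resultant {K : Type*} [Field K] {d : ℕ} {F G : K[X]} (hF : F.natDegree ≤ d)
    (hG : G.natDegree ≤ d) (h1 : F.coeff d = 1 ∨ G.coeff d = 1) :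
    IsCoprime F G ↔ resultant F G d d ≠ 0 := by
  have key : ∀ A B : K[X], A.natDegree ≤ d → B.natDegree ≤ d → A.coeff d = 1 →
      (IsCoprime A B ↔ resultant A B d d ≠ 0) := by
    intro A B hA hB hA1
    have hAd : A.natDegree = d := le_antisymm hA (le_natDegree_of_ne_zero (by simp [hA1]))
    have h2 := resultant_add_right_deg A B d B.natDegree (d - B.natDegree) le_rfl
    rw [Nat.add_sub_cancel' hB, hA1, one_pow, one_mul] at h2
    rw [h2, ← hAd, Ne, resultant_eq_zero_iff]
    have hA0 : A ≠ 0 := fun h => by simp [h] at hA1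
    simp [hA0]
  rcases h1 with h1 | h1
  · exact key F G hF hG h1
  · rw [isCoprime_comm, key G F hG hF h1, resultant_comm G F d d]
    simp

lemma wronskian_map' {R S : Type*} [CommRing R] [CommRing S] (φ : R →+* S) (F G : R[X]) :
    (wronskian F G).map φ = wronskian (F.map φ) (G.map φ) := by
  simp [wronskian, derivative_map]

section Universal

variable {k : Type u} [Field k] [IsAlgClosed k] {p : ℕ} [CharP k p] {d n : ℕ} {e : Fin n → ℕ}

/-- indices of the coordinates of a chart -/
abbrev Coord (d n : ℕ) : Type := Fin n ⊕ Fin (d + 1) ⊕ Fin (d + 1)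

/-- the chart point determined by coordinates -/
def Good {K : Type*} [Field K] (d : ℕ) (e : Fin n → ℕ) (a b c : Fin n) (bF : Bool)
    (ij : Option (Fin n × Fin n)) (x : Coord d n → K) : Prop :=
  Chart d e a b c bF ij (fun l => x (.inl l)) (mkP fun i => x (.inr (.inl i)))
    (mkP fun i => x (.inr (.inr i)))

/-- the indices with free branch values -/
def freeIdx (a b c : Fin n) (ij : Option (Fin n × Fin n)) : Finset (Fin n) :=
  Finset.univ \ ({a, b, c} ∪ (ij.map fun q => q.2).toFinset)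

variable (k) in
/-- the universal ramification equation -/
noncomputable def ramEq (d : ℕ) (e : Fin n → ℕ) (l : Fin n) :
    (MvPolynomial (Coord d n) k)[X] :=
  let X' : Coord d n → MvPolynomial (Coord d n) k := MvPolynomial.X
  let F := mkP fun i => X' (.inr (.inl i))
  let G := mkP fun i => X' (.inr (.inr i))
  (C (G.eval (X' (.inl l))) * F - C (F.eval (X' (.inl l))) * G) %ₘ (X - C (X' (.inl l))) ^ e l

variable (k) in
/-- the equations of a chart -/
noncomputable def chartIdeal (d : ℕ) (e : Fin n → ℕ) (a b c : Fin n) (bF : Bool)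
    (ij : Option (Fin n × Fin n)) : Ideal (MvPolynomial (Coord d n) k) :=
  let X' : Coord d n → MvPolynomial (Coord d n) k := MvPolynomial.X
  let F := mkP fun i => X' (.inr (.inl i))
  let G := mkP fun i => X' (.inr (.inr i))
  Ideal.span ((Set.range fun q : Fin n × ℕ => (ramEq k d e q.1).coeff q.2) ∪
    {F.eval (X' (.inl a)), G.eval (X' (.inl b)), F.eval (X' (.inl c)) - G.eval (X' (.inl c)),
      (if bF then F else G).coeff d - 1} ∪
    {r | ∃ q ∈ ij, r = F.eval (X' (.inl q.1)) * G.eval (X' (.inl q.2)) -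
      F.eval (X' (.inl q.2)) * G.eval (X' (.inl q.1))})

/-- closed conditions of a chart under a homomorphism -/
lemma chartIdeal_le_ker_iff {K : Type*} [Field K] (φ : MvPolynomial (Coord d n) k →+* K)
    (a b c : Fin n) (bF : Bool) (ij : Option (Fin n × Fin n)) :
    let x : Coord d n → K := fun s => φ (MvPolynomial.X s)
    let F := mkP fun i => x (.inr (.inl i))
    let G := mkP fun i => x (.inr (.inr i))
    chartIdeal k d e a b c bF ij ≤ RingHom.ker φ ↔
      (∀ l, (X - C (x (.inl l))) ^ e l ∣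
          C (G.eval (x (.inl l))) * F - C (F.eval (x (.inl l))) * G) ∧
        F.eval (x (.inl a)) = 0 ∧ G.eval (x (.inl b)) = 0 ∧
        F.eval (x (.inl c)) = G.eval (x (.inl c)) ∧ (if bF then F else G).coeff d = 1 ∧
        ∀ q ∈ ij, F.eval (x (.inl q.1)) * G.eval (x (.inl q.2)) =
          F.eval (x (.inl q.2)) * G.eval (x (.inl q.1)) := by
  intro x F G
  let X' : Coord d n → MvPolynomial (Coord d n) k := MvPolynomial.X
  have hF : (mkP fun i => X' (.inr (.inl i))).map φ = F := map_mkP φ _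
  have hG : (mkP fun i => X' (.inr (.inr i))).map φ = G := map_mkP φ _
  have heF : ∀ l, φ ((mkP fun i => X' (.inr (.inl i))).eval (X' (.inl l))) = F.eval (x (.inl l)) :=
    fun l => by rw [← hF, eval_map_apply]
  have heG : ∀ l, φ ((mkP fun i => X' (.inr (.inr i))).eval (X' (.inl l))) = G.eval (x (.inl l)) :=
    fun l => by rw [← hG, eval_map_apply]
  have hram : ∀ l, (ramEq k d e l).map φ = 0 ↔ (X - C (x (.inl l))) ^ e l ∣
      C (G.eval (x (.inl l))) * F - C (F.eval (x (.inl l))) * G := fun l => by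
    rw [ramEq, map_modByMonic φ ((monic_X_sub_C _).pow _), Polynomial.map_pow, Polynomial.map_sub,
      Polynomial.map_sub, Polynomial.map_mul, Polynomial.map_mul, map_X, map_C, map_C, map_C]
    rw [heF, heG, hF, hG]
    exact modByMonic_eq_zero_iff_dvd ((monic_X_sub_C _).pow _)
  have hN : φ ((if bF then (mkP fun i => X' (.inr (.inl i))) else mkP fun i => X' (.inr (.inr i))).coeff d - 1) =
      (if bF then F else G).coeff d - 1 := by
    rw [map_sub, map_one, ← coeff_map]
    cases bF <;> simp [hF, hG]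
  simp only [chartIdeal, Ideal.span_le, Set.union_subset_iff, Set.range_subset_iff,
    Set.insert_subset_iff, Set.singleton_subset_iff, SetLike.mem_coe, RingHom.mem_ker]
  constructor
  · rintro ⟨⟨h1, h2, h3, h4, h5⟩, h6⟩
    refine ⟨fun l => (hram l).1 ?_, (heF a).symm.trans h2, (heG b).symm.trans h3, ?_, ?_, ?_⟩
    · ext m
      rw [coeff_map, coeff_zero]
      exact h1 (l, m)
    · rw [map_sub, sub_eq_zero] at h4
      exact (heF c).symm.trans (h4.trans (heG c))
    · exact sub_eq_zero.1 (hN.symm.trans h5)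
    · intro q hq
      have := h6 ⟨q, hq, rfl⟩
      simp only [SetLike.mem_coe, RingHom.mem_ker] at this
      rw [map_sub, map_mul, map_mul, sub_eq_zero] at this
      rw [← heF, ← heG, ← heF, ← heG]
      exact this
  · rintro ⟨h1, h2, h3, h4, h5, h6⟩
    refine ⟨⟨fun q => ?_, (heF a).trans h2, (heG b).trans h3, ?_, hN.trans (sub_eq_zero.2 h5)⟩, ?_⟩
    · rw [← coeff_map, (hram q.1).2 (h1 q.1), coeff_zero]
    · rw [map_sub, sub_eq_zero]
      exact (heF c).trans (h4.trans (heG c).symm)
    · rintro _ ⟨q, hq, rfl⟩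
      rw [SetLike.mem_coe, RingHom.mem_ker, map_sub, map_mul, map_mul, sub_eq_zero]
      rw [heF, heG, heF, heG]
      exact h6 q hq

lemma exists_finite_of_prime (he : WAdm p d e) (a b c : Fin n) (hab : a ≠ b) (hac : a ≠ c)
    (hbc : b ≠ c) (bF : Bool) (ij : Option (Fin n × Fin n))
    (hij : ∀ q ∈ ij, q.1 ≠ q.2 ∧ q.2 ≠ a ∧ q.2 ≠ b ∧ q.2 ≠ c)
    (𝔭 : Ideal (MvPolynomial (Coord d n) k)) (hp : 𝔭.IsPrime)
    (hI : chartIdeal k d e a b c bF ij ≤ 𝔭) :
    ∃ Φ : MvPolynomial (Fin n) k, Φ ≠ 0 ∧ ∀ P, MvPolynomial.eval P Φ ≠ 0 →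
      {x : Coord d n → k | Good d e a b c bF ij x ∧ 𝔭 ≤ RingHom.ker (MvPolynomial.eval x) ∧
        (fun l => x (.inl l)) = P}.Finite ∧
      (ij.isSome → ∀ x : Coord d n → k, Good d e a b c bF ij x →
        𝔭 ≤ RingHom.ker (MvPolynomial.eval x) → (fun l => x (.inl l)) ≠ P) := by
  classical
  by_cases hx₀ : ∃ x₀, Good d e a b c bF ij x₀ ∧ 𝔭 ≤ RingHom.ker (MvPolynomial.eval x₀)
  swap
  · push Not at hx₀
    refine ⟨1, one_ne_zero, fun P _ => ⟨?_, fun _ x hx hle _ => hx₀ x hx hle⟩⟩
    convert Set.finite_empty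
    exact Set.eq_empty_iff_forall_notMem.2 fun x hx => hx₀ x hx.1 hx.2.1
  obtain ⟨x₀, hg₀, hle₀⟩ := hx₀
  let B := MvPolynomial (Coord d n) k ⧸ 𝔭
  let L := FractionRing B
  let φ : MvPolynomial (Coord d n) k →ₐ[k] L :=
    (IsScalarTower.toAlgHom k B L).comp (Ideal.Quotient.mkₐ k 𝔭)
  have hφ : ∀ r, φ r = 0 ↔ r ∈ 𝔭 := fun r => by
    rw [show φ r = algebraMap B L (Ideal.Quotient.mk 𝔭 r) from rfl,
      map_eq_zero_iff _ (IsFractionRing.injective B L), Ideal.Quotient.eq_zero_iff_mem]
  have hker : RingHom.ker (φ : MvPolynomial (Coord d n) k →+* L) = 𝔭 := Ideal.ext hφ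
  let x : Coord d n → L := fun s => φ (MvPolynomial.X s)
  let ev : MvPolynomial (Coord d n) k →+* k := MvPolynomial.eval x₀
  have htrans : ∀ r, φ r = 0 → ev r = 0 := fun r hr => hle₀ ((hφ r).1 hr)
  let FF : (MvPolynomial (Coord d n) k)[X] := mkP fun i => MvPolynomial.X (.inr (.inl i))
  let GG : (MvPolynomial (Coord d n) k)[X] := mkP fun i => MvPolynomial.X (.inr (.inr i))
  have eF : FF.map (φ : MvPolynomial (Coord d n) k →+* L) = mkP fun i => x (.inr (.inl i)) :=
    map_mkP _ _
  have eG : GG.map (φ : MvPolynomial (Coord d n) k →+* L) = mkP fun i => x (.inr (.inr i)) :=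
    map_mkP _ _
  have eF0 : FF.map ev = mkP fun i => x₀ (.inr (.inl i)) := by
    simp only [FF, map_mkP, ev, Function.comp_def, MvPolynomial.eval_X]
  have eG0 : GG.map ev = mkP fun i => x₀ (.inr (.inr i)) := by
    simp only [GG, map_mkP, ev, Function.comp_def, MvPolynomial.eval_X]
  obtain ⟨hram, hva, hvb, hvc, hnorm, heqv⟩ :=
    (chartIdeal_le_ker_iff (e := e) (φ : MvPolynomial (Coord d n) k →+* L) a b c bF ij).1
      (hI.trans hker.ge)
  have hG : Chart d e a b c bF ij (fun l => x (.inl l)) (mkP fun i => x (.inr (.inl i)))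
      (mkP fun i => x (.inr (.inr i))) := by
    refine ⟨fun l l' hl => ?_, natDegree_mkP _, natDegree_mkP _, ?_, ?_, hram, hva, hvb, hvc,
      hnorm, heqv⟩
    · have := htrans (MvPolynomial.X (.inl l) - MvPolynomial.X (.inl l'))
        (by rw [map_sub, sub_eq_zero]; exact hl)
      simp only [ev, map_sub, MvPolynomial.eval_X, sub_eq_zero] at this
      exact hg₀.inj this
    · have hn : (mkP fun i => x (.inr (.inl i))).coeff d = 1 ∨
          (mkP fun i => x (.inr (.inr i))).coeff d = 1 := by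
        cases bF <;> simp only [Bool.false_eq_true, if_false, if_true] at hnorm
        · exact Or.inr hnorm
        · exact Or.inl hnorm
      have hn₀ : (mkP fun i => x₀ (.inr (.inl i))).coeff d = 1 ∨
          (mkP fun i => x₀ (.inr (.inr i))).coeff d = 1 := by
        have := hg₀.norm
        cases bF <;> simp only [Bool.false_eq_true, if_false, if_true] at this
        · exact Or.inr this
        · exact Or.inl this
      rw [isCoprime_iff_resultant (natDegree_mkP _) (natDegree_mkP _) hn, ← eF, ← eG,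
        resultant_map_map]
      intro h0
      apply (isCoprime_iff_resultant (natDegree_mkP _) (natDegree_mkP _) hn₀).1 hg₀.cop
      rw [← eF0, ← eG0, resultant_map_map]
      exact htrans _ h0
    · intro h0
      apply hg₀.wr
      rw [← eF0, ← eG0, ← wronskian_map']
      rw [← eF, ← eG, ← wronskian_map'] at h0
      ext m
      rw [coeff_map, coeff_zero]
      exact htrans _ (by rw [← RingHom.coe_coe, ← coeff_map, h0, coeff_zero])
  haveI : CharP L p := charP_of_injective_algebraMap (algebraMap k L).injective p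
  haveI : Algebra.EssFiniteType B L :=
    Algebra.EssFiniteType.of_isLocalization L (nonZeroDivisors B)
  haveI : Algebra.EssFiniteType k L := Algebra.EssFiniteType.comp k B L
  have hgen : ∀ D : Derivation k L L, (∀ l, D (x (.inl l)) = 0) →
      (∀ m, D ((mkP fun i => x (.inr (.inl i))).coeff m) = 0) →
      (∀ m, D ((mkP fun i => x (.inr (.inr i))).coeff m) = 0) → D = 0 := by
    intro D h1 h2 h3
    have hX : ∀ s, D (φ (MvPolynomial.X s)) = 0 := by
      rintro (l | i | i)
      · exact h1 l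
      · have := h2 i; rwa [coeff_mkP, dif_pos i.2] at this
      · have := h3 i; rwa [coeff_mkP, dif_pos i.2] at this
    have hR : ∀ r, D (φ r) = 0 := fun r => by
      induction r using MvPolynomial.induction_on with
      | C t => rw [show φ (MvPolynomial.C t) = algebraMap k L t from φ.commutes t,
          Derivation.map_algebraMap]
      | add q r hq hr => rw [map_add, map_add, hq, hr, add_zero]
      | mul_X q s hq => rw [map_mul, Derivation.leibniz, hX, hq, smul_zero, smul_zero, add_zero]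
    ext z
    obtain ⟨y, w, hw, rfl⟩ := IsFractionRing.div_surjective (A := B) z
    obtain ⟨y, rfl⟩ := Ideal.Quotient.mk_surjective y
    obtain ⟨w, rfl⟩ := Ideal.Quotient.mk_surjective w
    rw [Derivation.zero_apply, div_eq_mul_inv, Derivation.leibniz, Derivation.leibniz_inv]
    have hy : D (algebraMap B L (Ideal.Quotient.mk 𝔭 y)) = 0 := hR y
    have hw' : D (algebraMap B L (Ideal.Quotient.mk 𝔭 w)) = 0 := hR w
    rw [hy, hw']
    simp
  have hS : ∀ l, l ∈ freeIdx a b c ij ∨ l = a ∨ l = b ∨ l = c ∨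
      ∃ i, (i ∈ freeIdx a b c ij ∨ i = a ∨ i = b ∨ i = c) ∧ (i, l) ∈ ij := by
    intro l
    by_cases hl : ∃ q ∈ ij, q.2 = l
    · obtain ⟨⟨i, j⟩, hq, rfl⟩ := hl
      refine Or.inr (Or.inr (Or.inr (Or.inr ⟨i, ?_, hq⟩)))
      obtain ⟨h1, -⟩ := hij _ hq
      rw [Option.mem_def] at hq
      simp only [freeIdx, hq, Option.map_some, Option.toFinset_some, Finset.mem_sdiff,
        Finset.mem_univ, true_and, Finset.mem_union, Finset.mem_insert, Finset.mem_singleton]
      tauto
    · simp only [freeIdx, Finset.mem_sdiff, Finset.mem_univ, true_and, Finset.mem_union,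
        Finset.mem_insert, Finset.mem_singleton, Option.mem_toFinset, Option.mem_def,
        Option.map_eq_some_iff]
      have : ¬ ∃ q, ij = some q ∧ q.2 = l := hl
      by_cases ha : l = a
      · exact Or.inr (Or.inl ha)
      by_cases hb : l = b
      · exact Or.inr (Or.inr (Or.inl hb))
      by_cases hc : l = c
      · exact Or.inr (Or.inr (Or.inr (Or.inl hc)))
      exact Or.inl (by rintro (h | h) <;> simp_all)
  have hcard : (freeIdx a b c ij).card + 3 + (if ij.isSome then 1 else 0) = n := by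
    rw [freeIdx, Finset.card_sdiff_of_subset (Finset.subset_univ _), Finset.card_univ,
      Fintype.card_fin]
    have h3 : ({a, b, c} : Finset (Fin n)).card = 3 :=
      Finset.card_eq_three.2 ⟨a, b, c, hab, hac, hbc, rfl⟩
    have hu := Finset.card_le_univ ({a, b, c} ∪ (ij.map fun q => q.2).toFinset : Finset (Fin n))
    rw [Fintype.card_fin] at hu
    rw [Finset.card_union_of_disjoint] at hu ⊢
    rotate_left
    · rcases ij with _ | q
      · simp
      · obtain ⟨-, h1, h2, h3⟩ := hij q rfl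
        simp [h1, h2, h3]
    · rcases ij with _ | q
      · simp
      · obtain ⟨-, h1, h2, h3⟩ := hij q rfl
        simp [h1, h2, h3]
    rcases ij with _ | q <;>
      simp only [Option.map_none, Option.map_some, Option.toFinset_none, Option.toFinset_some,
        Finset.card_empty, Finset.card_singleton, h3, Option.isSome_none, Option.isSome_some,
        Bool.false_eq_true, if_false, if_true] at hu ⊢ <;> omega
  have hbound : ∀ {ι : Type} [Fintype ι] (v : ι → L), AlgebraicIndependent k v →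
      Fintype.card ι + (if ij.isSome then 1 else 0) ≤ n := by
    intro ι _ v hv
    obtain ⟨hfin, hle⟩ := le_finrank_derivation v hv
    have := hG.finrank_derivation_le he hgen (freeIdx a b c ij) hS
    omega
  let θ : MvPolynomial (Fin n) k →ₐ[k] L := MvPolynomial.aeval fun l => x (.inl l)
  have hθ : θ = φ.comp (MvPolynomial.rename Sum.inl) := by
    ext l; simp [θ, x]
  by_cases hinj : Function.Injective θ
  swap
  · obtain ⟨Φ, hΦ, hΦ0⟩ : ∃ Φ, θ Φ = 0 ∧ Φ ≠ 0 := by
      rw [injective_iff_map_eq_zero] at hinj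
      push Not at hinj
      exact hinj
    have hmem : MvPolynomial.rename Sum.inl Φ ∈ 𝔭 :=
      (hφ _).1 (by rw [← AlgHom.comp_apply, ← hθ, hΦ])
    have hempty : ∀ P, MvPolynomial.eval P Φ ≠ 0 → ∀ y : Coord d n → k,
        𝔭 ≤ RingHom.ker (MvPolynomial.eval y) → (fun l => y (.inl l)) ≠ P := by
      rintro P hP y hy rfl
      have := hy hmem
      rw [RingHom.mem_ker, MvPolynomial.eval_rename] at this
      exact hP this
    refine ⟨Φ, hΦ0, fun P hP => ⟨?_, fun _ y _ hy => hempty P hP y hy⟩⟩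
    convert Set.finite_empty
    exact Set.eq_empty_iff_forall_notMem.2 fun y hy => hempty P hP y hy.2.1 hy.2.2
  have hAI : AlgebraicIndependent k fun l => x (.inl l) :=
    algebraicIndependent_iff_injective_aeval.2 hinj
  have hnone : ij.isSome = false := by
    by_contra h
    have := hbound _ hAI
    simp only [Bool.not_eq_false] at h
    simp [h] at this
  have halg : ∀ s, ∃ Q : (MvPolynomial (Fin n) k)[X], Q ≠ 0 ∧ Q.eval₂ θ (x s) = 0 := by
    intro s
    by_contra hs
    push Not at hs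
    have hAI' : AlgebraicIndependent k (fun o : Option (Fin n) => o.elim (x s) fun l => x (.inl l)) := by
      rw [algebraicIndependent_iff_injective_aeval, injective_iff_map_eq_zero]
      intro f hf
      by_contra hf0
      refine hs (MvPolynomial.optionEquivLeft k (Fin n) f)
        (fun h => hf0 (by simpa using h)) ?_
      rw [← hf]
      clear hf hf0
      induction f using MvPolynomial.induction_on with
      | C t => simp [θ]
      | add q r hq hr => rw [map_add, eval₂_add, hq, hr, map_add]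
      | mul_X q o hq =>
        rw [map_mul, eval₂_mul, hq, map_mul]
        cases o <;> simp [MvPolynomial.optionEquivLeft_X_none, MvPolynomial.optionEquivLeft_X_some, θ]
    have := hbound _ hAI'
    rw [Fintype.card_option, Fintype.card_fin] at this
    omega
  choose Q hQ0 hQ using halg
  refine ⟨∏ s, (Q s).leadingCoeff,
    Finset.prod_ne_zero_iff.2 fun s _ => leadingCoeff_ne_zero.2 (hQ0 s),
    fun P hP => ⟨?_, fun h => by simp [hnone] at h⟩⟩
  refine Set.Finite.subset (Set.Finite.pi (t := fun s =>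
    {t : k | ((Q s).map (MvPolynomial.eval P)).IsRoot t}) fun s => ?_) ?_
  · refine finite_setOf_isRoot fun h0 => hP ?_
    rw [map_prod]
    refine Finset.prod_eq_zero (Finset.mem_univ s) ?_
    rw [leadingCoeff, ← coeff_map, h0, coeff_zero]
  · rintro y ⟨-, hy, rfl⟩ s -
    let R' := ((Q s).map (MvPolynomial.rename (R := k) (Sum.inl : Fin n → Coord d n)).toRingHom).eval
      (MvPolynomial.X s)
    have hmem : R' ∈ 𝔭 := by
      refine (hφ _).1 ?_
      rw [← hQ s, hθ]
      simp only [R', eval_map]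
      rw [show φ (Polynomial.eval₂ _ _ _) = _ from
        Polynomial.hom_eval₂ _ _ (φ : MvPolynomial (Coord d n) k →+* L) _]
      rfl
    have := hy hmem
    rw [RingHom.mem_ker] at this
    simp only [R', eval_map] at this
    rw [Polynomial.hom_eval₂, MvPolynomial.eval_X] at this
    show ((Q s).map (MvPolynomial.eval fun l => y (.inl l))).IsRoot (y s)
    rw [IsRoot.def, eval_map]
    refine Eq.trans ?_ this
    congr 1
    refine MvPolynomial.ringHom_ext ?_ ?_ <;> intro <;> simp

end Universal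

section Cover

variable {k : Type u} [Field k] {d n : ℕ} {e : Fin n → ℕ} {P : Fin n → k}

/-- Changing the basis preserves the ramification condition. -/
lemma ram_of_change {a : k} {m : ℕ} {F G : k[X]}
    (h : (X - C a) ^ m ∣ C (G.eval a) * F - C (F.eval a) * G) (α β γ δ : k) :
    (X - C a) ^ m ∣ C ((C γ * F + C δ * G).eval a) * (C α * F + C β * G) -
      C ((C α * F + C β * G).eval a) * (C γ * F + C δ * G) := by
  have : C ((C γ * F + C δ * G).eval a) * (C α * F + C β * G) -
      C ((C α * F + C β * G).eval a) * (C γ * F + C δ * G) =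
      C (α * δ - β * γ) * (C (G.eval a) * F - C (F.eval a) * G) := by
    simp only [eval_add, eval_mul, eval_C, map_add, map_mul, map_sub]; ring
  rw [this]
  exact dvd_mul_of_dvd_right h _

lemma isCoprime_of_change {F G : k[X]} (h : IsCoprime F G) {α β γ δ : k}
    (hdet : α * δ - β * γ ≠ 0) : IsCoprime (C α * F + C β * G) (C γ * F + C δ * G) := by
  obtain ⟨r, s, hrs⟩ := h
  set t := (α * δ - β * γ)⁻¹ with ht
  refine ⟨r * C (δ * t) - s * C (γ * t), s * C (α * t) - r * C (β * t), ?_⟩
  have : C (α * δ - β * γ) * C t = (1 : k[X]) := by rw [← map_mul, ht, mul_inv_cancel₀ hdet, map_one]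
  simp only [map_sub, map_mul] at this ⊢
  linear_combination (r * F + s * G) * this + hrs

lemma wronskian_change (F G : k[X]) (α β γ δ : k) :
    wronskian (C α * F + C β * G) (C γ * F + C δ * G) = C (α * δ - β * γ) * wronskian F G := by
  simpa [smul_eq_C_mul] using wronskian_comb F G α β γ δ

/-- the member of `span {F, G}` vanishing at `a` -/
lemma eq_smul_of_eval_eq_zero {F G s : k[X]} (hcop : IsCoprime F G)
    (hs : s ∈ Submodule.span k {F, G}) {a : k} (hsa : s.eval a = 0) :
    ∃ t : k, s = C t * (C (G.eval a) * F - C (F.eval a) * G) := by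
  obtain ⟨α, β, rfl⟩ := Submodule.mem_span_pair.1 hs
  simp only [eval_add, eval_smul, smul_eq_mul] at hsa
  rcases eval_ne_zero_of_isCoprime hcop a with hu | hv
  · refine ⟨-β / F.eval a, ?_⟩
    have h1 : C α = C (-β / F.eval a) * C (G.eval a) := by
      rw [← map_mul]; congr 1; field_simp; linear_combination hsa
    have h2 : C β = -(C (-β / F.eval a) * C (F.eval a)) := by
      rw [← map_mul, ← map_neg]; congr 1; field_simp
    rw [smul_eq_C_mul, smul_eq_C_mul, h1, h2]
    ring
  · refine ⟨α / G.eval a, ?_⟩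
    have hα : α = α / G.eval a * G.eval a := by field_simp
    have hβ : β = -(α / G.eval a * F.eval a) := by field_simp; linear_combination hsa
    conv_lhs => rw [hα, hβ]
    simp only [smul_eq_C_mul, map_mul, map_neg]
    ring

variable [IsAlgClosed k]

/-- a basis of a pencil in `ramMaps` -/
lemma exists_basis {V : Submodule k k[X]} (hV : V ∈ ramMaps d P e) (he : ∀ l, 1 ≤ e l) :
    ∃ F G : k[X], V = Submodule.span k {F, G} ∧ F.natDegree ≤ d ∧ G.natDegree ≤ d ∧
      (F.coeff d ≠ 0 ∨ G.coeff d ≠ 0) ∧ IsCoprime F G ∧ wronskian F G ≠ 0 ∧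
      ∀ l, (X - C (P l)) ^ e l ∣ C (G.eval (P l)) * F - C (F.eval (P l)) * G := by
  obtain ⟨⟨hle, h2, ⟨s, hs, hsd⟩, hbp⟩, hsep, hram⟩ := hV
  obtain ⟨F, hF, G, hG, hW⟩ := hsep
  have hVeq := eq_span_pair h2 hF hG (indep_of_wronskian_ne_zero hW)
  have hcop : IsCoprime F G := isCoprime_of_pencil (by rw [← hVeq]; exact hbp)
  refine ⟨F, G, hVeq, mem_degreeLE_iff.1 (hle hF), mem_degreeLE_iff.1 (hle hG), ?_, hcop, hW,
    fun l => ?_⟩
  · by_contra h
    push Not at h
    obtain ⟨α, β, rfl⟩ := Submodule.mem_span_pair.1 (hVeq ▸ hs : s ∈ Submodule.span k {F, G})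
    have h0 : (α • F + β • G).coeff d = 0 := by simp [h.1, h.2]
    rw [← hsd, ← leadingCoeff, leadingCoeff_eq_zero] at h0
    have hd0 : d = 0 := by rw [← hsd, h0, natDegree_zero]
    subst hd0
    refine hW ?_
    rw [eq_C_of_natDegree_le_zero (mem_degreeLE_iff.1 (hle hF)),
      eq_C_of_natDegree_le_zero (mem_degreeLE_iff.1 (hle hG)), h.1, h.2]
    simp
  · obtain ⟨s', hs', hs0, hm⟩ := (hram l).1
    have hsl : s'.eval (P l) = 0 := (rootMultiplicity_pos hs0).1 ((he l).trans hm)
    obtain ⟨t, rfl⟩ := eq_smul_of_eval_eq_zero hcop (hVeq ▸ hs') hsl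
    have := (le_rootMultiplicity_iff hs0).1 hm
    have ht : t ≠ 0 := fun h => hs0 (by simp [h])
    exact (isUnit_C.2 ht.isUnit).dvd_mul_left.1 this

omit [IsAlgClosed k] in
/-- the points of a fibre have total ramification at most the degree -/
lemma sum_le_degree (hP : Function.Injective P) {F G : k[X]} (hF : F.natDegree ≤ d)
    (hG : G.natDegree ≤ d) (hcop : IsCoprime F G) (hW : wronskian F G ≠ 0)
    (hram : ∀ l, (X - C (P l)) ^ e l ∣ C (G.eval (P l)) * F - C (F.eval (P l)) * G) (a : Fin n)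
    (A : Finset (Fin n))
    (hA : ∀ l ∈ A, F.eval (P a) * G.eval (P l) = F.eval (P l) * G.eval (P a)) :
    ∑ l ∈ A, e l ≤ d := by
  set s := C (G.eval (P a)) * F - C (F.eval (P a)) * G with hs
  have hs0 : s ≠ 0 := fun h0 => by
    have := LinearIndependent.pair_iff.1 (indep_of_wronskian_ne_zero hW) (G.eval (P a))
      (-F.eval (P a)) (by rw [← h0, smul_eq_C_mul, smul_eq_C_mul, map_neg, hs]; ring)
    rcases eval_ne_zero_of_isCoprime hcop (P a) with hu | hv
    · exact hu (neg_eq_zero.1 this.2)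
    · exact hv this.1
  have hdvd : ∏ l ∈ A, (X - C (P l)) ^ e l ∣ s := by
    refine Finset.prod_dvd_of_coprime (fun i _ j _ hij =>
      (isCoprime_X_sub_C_of_isUnit_sub (sub_ne_zero.2 (hP.ne hij)).isUnit).pow) fun l hl => ?_
    have h := hA l hl
    rcases eval_ne_zero_of_isCoprime hcop (P l) with hu | hv
    · refine (isUnit_C.2 hu.isUnit).dvd_mul_left.1 ?_
      have : C (F.eval (P l)) * s =
          C (F.eval (P a)) * (C (G.eval (P l)) * F - C (F.eval (P l)) * G) := by
        have h' := congrArg C h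
        simp only [map_mul] at h'
        rw [hs]; linear_combination -F * h'
      rw [this]; exact dvd_mul_of_dvd_right (hram l) _
    · refine (isUnit_C.2 hv.isUnit).dvd_mul_left.1 ?_
      have : C (G.eval (P l)) * s =
          C (G.eval (P a)) * (C (G.eval (P l)) * F - C (F.eval (P l)) * G) := by
        have h' := congrArg C h
        simp only [map_mul] at h'
        rw [hs]; linear_combination -G * h'
      rw [this]; exact dvd_mul_of_dvd_right (hram l) _
  have hdeg := natDegree_le_of_dvd hdvd hs0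
  rw [natDegree_prod _ _ fun l _ => pow_ne_zero _ (X_sub_C_ne_zero _)] at hdeg
  simp only [natDegree_pow, natDegree_X_sub_C, mul_one] at hdeg
  exact hdeg.trans ((natDegree_sub_le _ _).trans
    (max_le ((natDegree_C_mul_le _ _).trans hF) ((natDegree_C_mul_le _ _).trans hG)))

omit [IsAlgClosed k] in
lemma eval_eq_transfer {F G : k[X]} {x y z : k} (hcop : IsCoprime F G)
    (h₁ : F.eval x * G.eval y = F.eval y * G.eval x)
    (h₂ : F.eval x * G.eval z = F.eval z * G.eval x) :
    F.eval y * G.eval z = F.eval z * G.eval y := by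
  rcases eval_ne_zero_of_isCoprime hcop x with hu | hv
  · exact mul_left_cancel₀ hu (by linear_combination F.eval y * h₂ - F.eval z * h₁)
  · exact mul_left_cancel₀ hv (by linear_combination G.eval z * (-h₁) + G.eval y * h₂)

/-- every pencil in `ramMaps` lies in a chart -/
lemma exists_chart {p : ℕ} (he : WAdm p d e) (hn : 3 ≤ n) (hP : Function.Injective P)
    {V : Submodule k k[X]} (hV : V ∈ ramMaps d P e) (ij : Option (Fin n × Fin n))
    (hij : ∀ q ∈ ij, q.1 ≠ q.2)
    (hijV : ∀ q ∈ ij, ∃ s ∈ V, s ≠ 0 ∧ s.eval (P q.1) = 0 ∧ s.eval (P q.2) = 0) :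
    ∃ a b c : Fin n, a ≠ b ∧ a ≠ c ∧ b ≠ c ∧
      (∀ q ∈ ij, q.1 ≠ q.2 ∧ q.2 ≠ a ∧ q.2 ≠ b ∧ q.2 ≠ c) ∧
      ∃ (bF : Bool) (F G : k[X]), V = Submodule.span k {F, G} ∧ Chart d e a b c bF ij P F G := by
  classical
  obtain ⟨F₀, G₀, hVeq, hF₀, hG₀, hlead, hcop, hW, hram⟩ :=
    exists_basis hV (fun l => by have := (he.1 l).1; omega)
  let R : Fin n → Fin n → Prop := fun x y =>
    F₀.eval (P x) * G₀.eval (P y) = F₀.eval (P y) * G₀.eval (P x)
  have hsum := he.2
  have hnot : ∀ a b, ∃ c, ¬ R a c ∧ ¬ R b c := by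
    intro a b
    by_contra h
    push Not at h
    have h1 := sum_le_degree hP hF₀ hG₀ hcop hW hram a (Finset.univ.filter (R a))
      (fun l hl => (Finset.mem_filter.1 hl).2)
    have h2 := sum_le_degree hP hF₀ hG₀ hcop hW hram b (Finset.univ.filter (R a))ᶜ
      (fun l hl => h l fun hR => Finset.mem_compl.1 hl (Finset.mem_filter.2 ⟨Finset.mem_univ l, hR⟩))
    have := Finset.sum_add_sum_compl (Finset.univ.filter (R a)) e
    omega
  let a : Fin n := (ij.map fun q => q.1).getD ⟨0, by omega⟩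
  obtain ⟨b, hb, -⟩ := hnot a a
  obtain ⟨c, hca, hcb⟩ := hnot a b
  have hab : a ≠ b := fun h => hb (by rw [← h])
  have hac : a ≠ c := fun h => hca (by rw [← h])
  have hbc : b ≠ c := fun h => hcb (by rw [← h])
  have hij' : ∀ q ∈ ij, q.1 ≠ q.2 ∧ q.2 ≠ a ∧ q.2 ≠ b ∧ q.2 ≠ c ∧ R q.1 q.2 := by
    intro q hq
    have ha : a = q.1 := by rw [Option.mem_def] at hq; simp [a, hq]
    obtain ⟨s, hs, hs0, h1, h2⟩ := hijV q hq
    obtain ⟨t, rfl⟩ := eq_smul_of_eval_eq_zero hcop (hVeq ▸ hs) h1
    have ht : t ≠ 0 := fun h => hs0 (by simp [h])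
    have hR : R q.1 q.2 := by
      simp only [eval_mul, eval_sub, eval_C, mul_eq_zero, ht, false_or] at h2
      show F₀.eval _ * G₀.eval _ = _
      linear_combination -h2
    refine ⟨hij q hq, ha ▸ (hij q hq).symm, ?_, ?_, hR⟩
    · rintro rfl; exact hb (ha ▸ hR)
    · rintro rfl; exact hca (ha ▸ hR)
  refine ⟨a, b, c, hab, hac, hbc,
    fun q hq => ⟨(hij' q hq).1, (hij' q hq).2.1, (hij' q hq).2.2.1, (hij' q hq).2.2.2.1⟩, ?_⟩
  -- normalisation
  let u := fun l => F₀.eval (P l)
  let v := fun l => G₀.eval (P l)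
  have hp : v a * u c - u a * v c ≠ 0 := fun h => hca (by
    show u a * v c = u c * v a; linear_combination -h)
  have hq : v b * u c - u b * v c ≠ 0 := fun h => hcb (by
    show u b * v c = u c * v b; linear_combination -h)
  set p₁ := v a * u c - u a * v c with hp₁
  set q₁ := v b * u c - u b * v c with hq₁
  have hdet0 : q₁ * v a * (p₁ * -u b) - q₁ * -u a * (p₁ * v b) ≠ 0 := by
    have e1 : q₁ * v a * (p₁ * -u b) - q₁ * -u a * (p₁ * v b) =
        q₁ * p₁ * (u a * v b - u b * v a) := by ring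
    rw [e1]
    exact mul_ne_zero (mul_ne_zero hq hp) fun h => hb (sub_eq_zero.1 h)
  let cc : k → k → k := fun α β => α * F₀.coeff d + β * G₀.coeff d
  have hcc : cc (q₁ * v a) (q₁ * -u a) ≠ 0 ∨ cc (p₁ * v b) (p₁ * -u b) ≠ 0 := by
    by_contra h
    push Not at h
    obtain ⟨h1, h2⟩ := h
    rcases hlead with hl | hl <;> refine hdet0 ((mul_eq_zero.1 ?_).resolve_right hl)
    · linear_combination (p₁ * -u b) * h1 - (q₁ * -u a) * h2
    · linear_combination (q₁ * v a) * h2 - (p₁ * v b) * h1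
  obtain ⟨bF, hbF⟩ : ∃ bF : Bool,
      (if bF then cc (q₁ * v a) (q₁ * -u a) else cc (p₁ * v b) (p₁ * -u b)) ≠ 0 := by
    rcases hcc with h | h
    · exact ⟨true, by simpa using h⟩
    · exact ⟨false, by simpa using h⟩
  set t := (if bF then cc (q₁ * v a) (q₁ * -u a) else cc (p₁ * v b) (p₁ * -u b))⁻¹ with ht
  have ht0 : t ≠ 0 := inv_ne_zero hbF
  set α := t * (q₁ * v a) with hα
  set β := t * (q₁ * -u a) with hβ
  set γ := t * (p₁ * v b) with hγ
  set δ := t * (p₁ * -u b) with hδ
  have hdet : α * δ - β * γ ≠ 0 := by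
    have : α * δ - β * γ = t * t * (q₁ * v a * (p₁ * -u b) - q₁ * -u a * (p₁ * v b)) := by ring
    rw [this]
    exact mul_ne_zero (mul_ne_zero ht0 ht0) hdet0
  refine ⟨bF, C α * F₀ + C β * G₀, C γ * F₀ + C δ * G₀, ?_, ?_⟩
  · have hm : ∀ r s : k, C r * F₀ + C s * G₀ ∈ V := fun r s => by
      rw [hVeq]; exact Submodule.mem_span_pair.2 ⟨r, s, by simp [smul_eq_C_mul]⟩
    exact eq_span_pair hV.1.2.1 (hm _ _) (hm _ _) (indep_of_wronskian_ne_zero (by
      rw [wronskian_change]; exact mul_ne_zero (C_ne_zero.2 hdet) hW))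
  refine ⟨hP, ?_, ?_, isCoprime_of_change hcop hdet, ?_, fun l => ram_of_change (hram l) _ _ _ _,
    ?_, ?_, ?_, ?_, ?_⟩
  · exact natDegree_add_le_of_degree_le ((natDegree_C_mul_le _ _).trans hF₀)
      ((natDegree_C_mul_le _ _).trans hG₀)
  · exact natDegree_add_le_of_degree_le ((natDegree_C_mul_le _ _).trans hF₀)
      ((natDegree_C_mul_le _ _).trans hG₀)
  · rw [wronskian_change]; exact mul_ne_zero (C_ne_zero.2 hdet) hW
  · simp only [eval_add, eval_mul, eval_C, hα, hβ, u, v]; ring
  · simp only [eval_add, eval_mul, eval_C, hγ, hδ, u, v]; ring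
  · simp only [eval_add, eval_mul, eval_C, hα, hβ, hγ, hδ, hp₁, hq₁, u, v]; ring
  · have key := inv_mul_cancel₀ hbF
    rw [← ht] at key
    cases bF <;> simp only [Bool.false_eq_true, if_false, if_true, coeff_add, coeff_C_mul] at key ⊢
    · rw [hγ, hδ]; linear_combination key
    · rw [hα, hβ]; linear_combination key
  · intro q hq
    have := (hij' q hq).2.2.2.2
    simp only [eval_add, eval_mul, eval_C]
    show _ = _
    linear_combination (α * δ - β * γ) * this

end Cover

section Main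

variable {k : Type u} [Field k] [IsAlgClosed k] {p : ℕ} [CharP k p] {d n : ℕ} {e : Fin n → ℕ}

lemma exists_finite_chart (he : WAdm p d e) (a b c : Fin n) (bF : Bool)
    (ij : Option (Fin n × Fin n)) :
    ∃ Φ : MvPolynomial (Fin n) k, Φ ≠ 0 ∧ ∀ P, MvPolynomial.eval P Φ ≠ 0 →
      a ≠ b → a ≠ c → b ≠ c → (∀ q ∈ ij, q.1 ≠ q.2 ∧ q.2 ≠ a ∧ q.2 ≠ b ∧ q.2 ≠ c) →
      {x : Coord d n → k | Good d e a b c bF ij x ∧ (fun l => x (.inl l)) = P}.Finite ∧
      (ij.isSome → ∀ x : Coord d n → k, Good d e a b c bF ij x → (fun l => x (.inl l)) ≠ P) := by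
  classical
  by_cases hv : a ≠ b ∧ a ≠ c ∧ b ≠ c ∧ ∀ q ∈ ij, q.1 ≠ q.2 ∧ q.2 ≠ a ∧ q.2 ≠ b ∧ q.2 ≠ c
  swap
  · exact ⟨1, one_ne_zero, fun P _ h1 h2 h3 h4 => absurd ⟨h1, h2, h3, h4⟩ hv⟩
  obtain ⟨hab, hac, hbc, hij⟩ := hv
  let I := chartIdeal k d e a b c bF ij
  have hfin := I.finite_minimalPrimes_of_isNoetherianRing
  choose! Φ hΦ0 hΦ using fun 𝔭 (h : 𝔭 ∈ I.minimalPrimes) =>
    exists_finite_of_prime (k := k) he a b c hab hac hbc bF ij hij 𝔭 h.1.1 h.1.2
  refine ⟨∏ 𝔭 ∈ hfin.toFinset, Φ 𝔭,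
    Finset.prod_ne_zero_iff.2 fun 𝔭 h => hΦ0 𝔭 (hfin.mem_toFinset.1 h), fun P hP _ _ _ _ => ?_⟩
  rw [map_prod, Finset.prod_ne_zero_iff] at hP
  have hex : ∀ x : Coord d n → k, Good d e a b c bF ij x →
      ∃ 𝔭 ∈ I.minimalPrimes, 𝔭 ≤ RingHom.ker (MvPolynomial.eval x) := by
    intro x hx
    haveI : (RingHom.ker (MvPolynomial.eval x)).IsPrime := RingHom.ker_isPrime _
    refine Ideal.exists_minimalPrimes_le ((chartIdeal_le_ker_iff _ a b c bF ij).2 ?_)
    simp only [MvPolynomial.eval_X]
    exact ⟨hx.ram, hx.va, hx.vb, hx.vc, hx.norm, hx.eqv⟩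
  constructor
  · refine (hfin.biUnion fun 𝔭 h => (hΦ 𝔭 h P (hP 𝔭 (hfin.mem_toFinset.2 h))).1).subset ?_
    rintro x ⟨hx, hxP⟩
    obtain ⟨𝔭, h, hle⟩ := hex x hx
    exact Set.mem_iUnion₂.2 ⟨𝔭, h, hx, hle, hxP⟩
  · intro hs x hx
    obtain ⟨𝔭, h, hle⟩ := hex x hx
    exact (hΦ 𝔭 h P (hP 𝔭 (hfin.mem_toFinset.2 h))).2 hs x hx hle

/-- the general statement for at least three points -/
lemma exists_generic (he : WAdm p d e) (hn : 3 ≤ n) :
    ∃ Φ : MvPolynomial (Fin n) k, Φ ≠ 0 ∧ ∀ P : Fin n → k, MvPolynomial.eval P Φ ≠ 0 →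
      Function.Injective P ∧ (ramMaps d P e).Finite ∧
        ∀ V ∈ ramMaps d P e, ∀ i j : Fin n, i ≠ j →
          ∀ s ∈ V, (s.IsRoot (P i) ∧ s.IsRoot (P j)) → s = 0 := by
  classical
  let T := Fin n × Fin n × Fin n × Bool × Option (Fin n × Fin n)
  choose Φ hΦ0 hΦ using fun t : T =>
    exists_finite_chart (k := k) he t.1 t.2.1 t.2.2.1 t.2.2.2.1 t.2.2.2.2
  let D : MvPolynomial (Fin n) k :=
    ∏ q ∈ Finset.univ.filter (fun q : Fin n × Fin n => q.1 ≠ q.2),
      (MvPolynomial.X q.1 - MvPolynomial.X q.2)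
  have hD : D ≠ 0 := Finset.prod_ne_zero_iff.2 fun q hq h =>
    (Finset.mem_filter.1 hq).2 (MvPolynomial.X_injective (sub_eq_zero.1 h))
  refine ⟨D * ∏ t, Φ t, mul_ne_zero hD (Finset.prod_ne_zero_iff.2 fun t _ => hΦ0 t), fun P hP => ?_⟩
  rw [map_mul, mul_ne_zero_iff, map_prod, map_prod, Finset.prod_ne_zero_iff,
    Finset.prod_ne_zero_iff] at hP
  obtain ⟨hPD, hPΦ⟩ := hP
  have hinj : Function.Injective P := fun i j hij => by
    by_contra h
    exact hPD (i, j) (Finset.mem_filter.2 ⟨Finset.mem_univ _, h⟩) (by simp [hij])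
  let pt : (F G : k[X]) → Coord d n → k := fun F G =>
    Sum.elim P (Sum.elim (fun i => F.coeff i) fun i => G.coeff i)
  have hgood : ∀ {a b c : Fin n} {bF : Bool} {ij : Option (Fin n × Fin n)} {F G : k[X]},
      Chart d e a b c bF ij P F G → Good d e a b c bF ij (pt F G) := by
    intro a b c bF ij F G h
    unfold Good
    simp only [pt, Sum.elim_inl, Sum.elim_inr, mkP_coeff h.degF, mkP_coeff h.degG]
    exact h
  refine ⟨hinj, ?_, fun V hV i j hij s hs hroot => ?_⟩
  · let W : Set (Coord d n → k) := ⋃ t ∈ {t : T | t.1 ≠ t.2.1 ∧ t.1 ≠ t.2.2.1 ∧ t.2.1 ≠ t.2.2.1 ∧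
      t.2.2.2.2 = none}, {x | Good d e t.1 t.2.1 t.2.2.1 t.2.2.2.1 t.2.2.2.2 x ∧
        (fun l => x (.inl l)) = P}
    have hW : W.Finite := (Set.toFinite _).biUnion fun t ht =>
      (hΦ t P (hPΦ t (Finset.mem_univ t)) ht.1 ht.2.1 ht.2.2.1 (by simp [ht.2.2.2])).1
    refine (hW.image fun x => Submodule.span k
      {mkP fun i => x (.inr (.inl i)), mkP fun i => x (.inr (.inr i))}).subset ?_
    intro V hV
    obtain ⟨a, b, c, hab, hac, hbc, -, bF, F, G, hVe, hC⟩ :=
      exists_chart he hn hinj hV none (by simp) (by simp)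
    refine ⟨pt F G, Set.mem_iUnion₂.2 ⟨(a, b, c, bF, none), ⟨hab, hac, hbc, rfl⟩, hgood hC, rfl⟩, ?_⟩
    simp only [pt, Sum.elim_inr, Sum.elim_inl, mkP_coeff hC.degF, mkP_coeff hC.degG, hVe]
  · by_contra hs0
    obtain ⟨a, b, c, hab, hac, hbc, hq, bF, F, G, hVe, hC⟩ :=
      exists_chart he hn hinj hV (some (i, j)) (by simp [hij])
        (fun q hq => by
          cases (Option.mem_some_iff.1 hq)
          exact ⟨s, hs, hs0, hroot.1, hroot.2⟩)
    exact (hΦ (a, b, c, bF, some (i, j)) P (hPΦ _ (Finset.mem_univ _)) hab hac hbc hq).2 rfl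
      (pt F G) (hgood hC) rfl

/-- the general statement -/
theorem exists_generic_all (he : WAdm p d e) :
    ∃ Φ : MvPolynomial (Fin n) k, Φ ≠ 0 ∧ ∀ P : Fin n → k, MvPolynomial.eval P Φ ≠ 0 →
      Function.Injective P ∧ (ramMaps d P e).Finite ∧
        ∀ V ∈ ramMaps d P e, ∀ i j : Fin n, i ≠ j →
          ∀ s ∈ V, (s.IsRoot (P i) ∧ s.IsRoot (P j)) → s = 0 := by
  classical
  rcases Nat.lt_or_ge n 3 with hn | hn
  swap
  · exact exists_generic he hn
  have hsum := he.2
  have hle : ∀ P : Fin n → k, ∀ V ∈ ramMaps d P e, ∀ l, e l ≤ d := by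
    intro P V hV l
    obtain ⟨s, hs, hs0, hm⟩ := (hV.2.2 l).1
    refine hm.trans ((rootMultiplicity_le_iff hs0 _ _).2 fun hdvd => ?_)
    have hdeg := natDegree_le_of_dvd hdvd hs0
    rw [natDegree_pow, natDegree_X_sub_C, mul_one] at hdeg
    have := mem_degreeLE_iff.1 (hV.1.1 hs)
    omega
  interval_cases n
  · refine ⟨1, one_ne_zero, fun P _ => ⟨Function.injective_of_subsingleton P,
      Set.Subsingleton.finite ?_, fun V _ i => i.elim0⟩⟩
    intro V hV W hW
    simp at hsum
    obtain rfl : d = 1 := by omega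
    have hfin : Module.finrank k (degreeLE k ((1 : ℕ) : WithBot ℕ)) = 2 := by
      rw [← degreeLT_succ_eq_degreeLE, (degreeLTEquiv k 2).finrank_eq, Module.finrank_fin_fun]
    haveI := Module.finite_of_finrank_eq_succ hfin
    rw [Submodule.eq_of_le_of_finrank_eq hV.1.1 (by rw [hfin, hV.1.2.1]),
      Submodule.eq_of_le_of_finrank_eq hW.1.1 (by rw [hfin, hW.1.2.1])]
  · refine ⟨1, one_ne_zero, fun P _ => ⟨Function.injective_of_subsingleton P,
      Set.Subsingleton.finite ?_, fun V _ i j hij => absurd (Subsingleton.elim i j) hij⟩⟩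
    intro V hV W hW
    have := hle P V hV 0
    simp at hsum
    have := (he.1 0).1
    obtain rfl : d = 1 := by omega
    have hfin : Module.finrank k (degreeLE k ((1 : ℕ) : WithBot ℕ)) = 2 := by
      rw [← degreeLT_succ_eq_degreeLE, (degreeLTEquiv k 2).finrank_eq, Module.finrank_fin_fun]
    haveI := Module.finite_of_finrank_eq_succ hfin
    rw [Submodule.eq_of_le_of_finrank_eq hV.1.1 (by rw [hfin, hV.1.2.1]),
      Submodule.eq_of_le_of_finrank_eq hW.1.1 (by rw [hfin, hW.1.2.1])]
  · have h0 := he.1 0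
    have h1 := he.1 1
    rw [Fin.sum_univ_two] at hsum
    refine ⟨MvPolynomial.X 0 - MvPolynomial.X 1, sub_ne_zero.2
      (MvPolynomial.X_injective.ne (by decide)), fun P hP => ?_⟩
    have hne : P 0 ≠ P 1 := fun h => hP (by simp [h])
    have hinj : Function.Injective P := by
      intro i j h
      fin_cases i <;> fin_cases j <;> first | rfl | exact absurd h hne | exact absurd h.symm hne
    have hed : ∀ V ∈ ramMaps d P e, e 0 = d ∧ e 1 = d := fun V hV => by
      have := hle P V hV 0
      have := hle P V hV 1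
      omega
    refine ⟨hinj, ?_, ?_⟩
    · refine Set.Subsingleton.finite fun V hV W hW => ?_
      have key : ∀ V ∈ ramMaps d P e,
          V = Submodule.span k {(X - C (P 0)) ^ d, (X - C (P 1)) ^ d} := by
        intro V hV
        obtain ⟨e0, e1⟩ := hed V hV
        have hmem : ∀ l, (X - C (P l)) ^ d ∈ V := by
          intro l
          have hl : e l = d := by fin_cases l <;> assumption
          obtain ⟨s, hs, hs0, hm⟩ := (hV.2.2 l).1
          rw [hl] at hm
          obtain ⟨g, hg⟩ := (le_rootMultiplicity_iff hs0).1 hm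
          have hdeg := mem_degreeLE_iff.1 (hV.1.1 hs)
          have hg0 : g ≠ 0 := fun h => hs0 (by rw [hg, h, mul_zero])
          rw [hg, natDegree_mul (pow_ne_zero _ (X_sub_C_ne_zero _)) hg0, natDegree_pow,
            natDegree_X_sub_C, mul_one] at hdeg
          obtain ⟨t, rfl⟩ := natDegree_eq_zero.1 (show g.natDegree = 0 by omega)
          have ht : t ≠ 0 := fun h => hg0 (by simp [h])
          have := V.smul_mem t⁻¹ hs
          rwa [hg, smul_eq_C_mul, mul_comm ((X - C (P l)) ^ d) (C t), ← mul_assoc, ← map_mul,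
            inv_mul_cancel₀ ht, map_one, one_mul] at this
        refine eq_span_pair hV.1.2.1 (hmem 0) (hmem 1) (indep_of_eval (P 1) ?_
          (pow_ne_zero _ (X_sub_C_ne_zero _)) ?_)
        · simp [sub_ne_zero.2 hne.symm]
        · simp [show d ≠ 0 by omega]
      rw [key V hV, key W hW]
    · intro V hV i j hij s hs hroot
      obtain ⟨e0, e1⟩ := hed V hV
      by_contra hs0
      obtain ⟨F, G, hVeq, hF, hG, -, hcop, hW, hram⟩ :=
        exists_basis hV (fun l => by have := (he.1 l).1; omega)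
      obtain ⟨t, rfl⟩ := eq_smul_of_eval_eq_zero hcop (hVeq ▸ hs) hroot.1
      have ht : t ≠ 0 := fun h => hs0 (by simp [h])
      have h2 : (C (G.eval (P i)) * F - C (F.eval (P i)) * G).eval (P j) = 0 := by
        have := hroot.2
        simp only [IsRoot.def, eval_mul, eval_C, mul_eq_zero, ht, false_or] at this
        exact this
      have := sum_le_degree hinj hF hG hcop hW hram i ({i, j} : Finset (Fin 2)) (fun l hl => by
        rcases Finset.mem_insert.1 hl with rfl | hl
        · rfl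
        · rw [Finset.mem_singleton.1 hl]
          simp only [eval_sub, eval_mul, eval_C] at h2
          linear_combination -h2)
      rw [Finset.sum_pair hij] at this
      have hi : e i = d := by fin_cases i <;> assumption
      have hj : e j = d := by fin_cases j <;> assumption
      omega

end Main

end Groth.Agent.RamP1
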