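import Groth.Agent.RamP1Lib.ThreePoints
import Groth.Agent.Omega.RankDimGen
import Mathlib.RingTheory.Smooth.Field
import Mathlib.RingTheory.Polynomial.Resultant.Basic
import Mathlib.RingTheory.Ideal.MinimalPrime.Noetherian

/-!
Finiteness of the pencils with prescribed tame ramification at general points, in every
characteristic: a derivation of the field generated by the data is determined by three
coefficients of a vector field and the motion of `n - 3` branch values.
-/

set_option autoImplicit false

universe u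

namespace Groth.Agent.RamP1

open Polynomial W4c1limliniiii

/-- Normalised data for a pencil with prescribed ramification. -/
structure Chart {K : Type*} [Field K] (d : ℕ) {n : ℕ} (e : Fin n → ℕ) (a b c : Fin n) (bF : Bool)
    (ij : Option (Fin n × Fin n)) (P : Fin n → K) (F G : K[X]) : Prop where
  inj : Function.Injective P
  degF : F.natDegree ≤ d
  degG : G.natDegree ≤ d
  cop : IsCoprime F G
  wr : wronskian F G ≠ 0
  ram : ∀ l, (X - C (P l)) ^ e l ∣ C (G.eval (P l)) * F - C (F.eval (P l)) * G
  va : F.eval (P a) = 0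
  vb : G.eval (P b) = 0
  vc : F.eval (P c) = G.eval (P c)
  norm : (if bF then F else G).coeff d = 1
  eqv : ∀ q ∈ ij, F.eval (P q.1) * G.eval (P q.2) = F.eval (P q.2) * G.eval (P q.1)

/-- Ramification data in which unramified marked points are allowed. -/
def WAdm (p d : ℕ) {n : ℕ} (e : Fin n → ℕ) : Prop :=
  (∀ i, 1 ≤ e i ∧ ¬ p ∣ e i) ∧ (∑ i, e i) + 2 = 2 * d + n

lemma weak_of_admissible {p d n : ℕ} {e : Fin n → ℕ} (he : Admissible p d e) : WAdm p d e :=
  ⟨fun i => ⟨by have := (he.1 i).1; omega, (he.1 i).2.2⟩, he.2⟩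

lemma natDegree_ramDiv_of_wAdm {K : Type*} [Field K] {p d n : ℕ} {e : Fin n → ℕ} {P : Fin n → K}
    (he : WAdm p d e) : (ramDiv P e).natDegree + 2 = 2 * d := by
  rw [ramDiv, natDegree_prod _ _ fun i _ => pow_ne_zero _ (X_sub_C_ne_zero _)]
  simp only [natDegree_pow, natDegree_X_sub_C, mul_one]
  have h : ∑ i, (e i - 1) + n = ∑ i, e i := by
    conv_rhs => rw [← Finset.sum_congr rfl fun i _ => Nat.sub_add_cancel (he.1 i).1]
    rw [Finset.sum_add_distrib]; simp
  have := he.2
  omega

lemma wronskian_eq_C_mul_of_wAdm {K : Type*} [Field K] {p d n : ℕ} {e : Fin n → ℕ} {P : Fin n → K}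
    (he : WAdm p d e) (hP : Function.Injective P) {F G : K[X]} (hF : F.natDegree ≤ d)
    (hG : G.natDegree ≤ d) (hW : wronskian F G ≠ 0)
    (hdvd : ∀ i, (X - C (P i)) ^ (e i - 1) ∣ wronskian F G) :
    ∃ c : K, c ≠ 0 ∧ wronskian F G = C c * ramDiv P e := by
  obtain ⟨q, hq⟩ : ramDiv P e ∣ wronskian F G := Finset.prod_dvd_of_coprime (fun i _ j _ hij =>
      (isCoprime_X_sub_C_of_isUnit_sub (sub_ne_zero.2 (hP.ne hij)).isUnit).pow) fun i _ => hdvd i
  have hq0 : q ≠ 0 := fun h => hW (by rw [hq, h, mul_zero])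
  have h1 := natDegree_wronskian_le hF hG hW
  have h2 := natDegree_ramDiv_of_wAdm (P := P) he
  rw [hq, natDegree_mul ramDiv_ne_zero hq0] at h1
  obtain ⟨c, rfl⟩ := natDegree_eq_zero.1 (show q.natDegree = 0 by omega)
  exact ⟨c, fun h => hq0 (by rw [h, map_zero]), by rw [hq, mul_comm]⟩

section Derivation

variable {k L : Type u} [Field k] [Field L] [Algebra k L]

/-- A derivation applied to the coefficients of a polynomial. -/
noncomputable def dmap (D : Derivation k L L) (f : L[X]) : L[X] :=
  ∑ m ∈ Finset.range (f.natDegree + 1), C (D (f.coeff m)) * X ^ m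

lemma coeff_dmap (D : Derivation k L L) (f : L[X]) (m : ℕ) :
    (dmap D f).coeff m = D (f.coeff m) := by
  simp only [dmap, finset_sum_coeff, coeff_C_mul_X_pow, Finset.sum_ite_eq, Finset.mem_range]
  split_ifs with h
  · rfl
  · rw [coeff_eq_zero_of_natDegree_lt (by omega), map_zero]

lemma dmap_add (D : Derivation k L L) (f g : L[X]) : dmap D (f + g) = dmap D f + dmap D g := by
  ext m; simp [coeff_dmap]

lemma dmap_sub (D : Derivation k L L) (f g : L[X]) : dmap D (f - g) = dmap D f - dmap D g := by
  ext m; simp [coeff_dmap]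

lemma add_dmap (D D' : Derivation k L L) (f : L[X]) : dmap (D + D') f = dmap D f + dmap D' f := by
  ext m; simp [coeff_dmap]

lemma smul_dmap (t : L) (D : Derivation k L L) (f : L[X]) : dmap (t • D) f = t • dmap D f := by
  ext m; simp [coeff_dmap]

lemma dmap_C (D : Derivation k L L) (a : L) : dmap D (C a) = C (D a) := by
  ext m
  rw [coeff_dmap, coeff_C, coeff_C]
  split_ifs <;> simp

lemma dmap_X (D : Derivation k L L) : dmap D X = 0 := by
  ext m
  rw [coeff_dmap, coeff_X, coeff_zero]
  split_ifs <;> simp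

lemma dmap_mul (D : Derivation k L L) (f g : L[X]) :
    dmap D (f * g) = dmap D f * g + f * dmap D g := by
  ext m
  simp only [coeff_dmap, coeff_add, coeff_mul, map_sum, Derivation.leibniz, smul_eq_mul,
    Finset.sum_add_distrib]
  rw [add_comm]
  congr 1
  exact Finset.sum_congr rfl fun _ _ => mul_comm _ _

lemma natDegree_dmap_le (D : Derivation k L L) (f : L[X]) : (dmap D f).natDegree ≤ f.natDegree :=
  natDegree_le_iff_coeff_eq_zero.2 fun m hm => by
    rw [coeff_dmap, coeff_eq_zero_of_natDegree_lt hm, map_zero]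

lemma dmap_X_sub_C_pow (D : Derivation k L L) (a : L) (m : ℕ) :
    dmap D ((X - C a) ^ (m + 1)) = C (-((m + 1 : ℕ) : L) * D a) * (X - C a) ^ m := by
  induction m with
  | zero => simp [dmap_sub, dmap_X, dmap_C]
  | succ m ih =>
    rw [pow_succ, dmap_mul, ih, dmap_sub, dmap_X, dmap_C]
    push_cast
    simp only [map_neg, map_add, map_mul, map_natCast, map_one]
    ring

lemma pow_dvd_dmap (D : Derivation k L L) {a : L} {m : ℕ} {f : L[X]} (h : (X - C a) ^ m ∣ f) :
    (X - C a) ^ (m - 1) ∣ dmap D f := by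
  obtain ⟨g, rfl⟩ := h
  cases m with
  | zero => simp
  | succ m =>
    rw [dmap_mul, dmap_X_sub_C_pow, Nat.add_sub_cancel]
    exact dvd_add (dvd_mul_of_dvd_left (dvd_mul_left _ _) _)
      (dvd_mul_of_dvd_left (pow_dvd_pow _ (Nat.le_succ m)) _)

variable {p d n : ℕ} [CharP L p] {e : Fin n → ℕ} {a b c : Fin n} {bF : Bool}
  {ij : Option (Fin n × Fin n)} {P : Fin n → L} {F G : L[X]}

/-- motion of the branch value at the `l`-th point -/
noncomputable def tau (P : Fin n → L) (F G : L[X]) (l : Fin n) : Derivation k L L →ₗ[L] L where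
  toFun D := D (F.eval (P l)) * G.eval (P l) - F.eval (P l) * D (G.eval (P l))
  map_add' D D' := by simp only [Derivation.add_apply]; ring
  map_smul' t D := by simp only [Derivation.smul_apply, smul_eq_mul, RingHom.id_apply]; ring

/-- motion of the map -/
noncomputable def motion (F G : L[X]) : Derivation k L L →ₗ[L] L[X] where
  toFun D := dmap D F * G - F * dmap D G
  map_add' D D' := by simp only [add_dmap]; ring
  map_smul' t D := by simp only [smul_dmap, RingHom.id_apply, smul_eq_C_mul]; ring

lemma eval_ne_zero_of_isCoprime (h : IsCoprime F G) (x : L) : F.eval x ≠ 0 ∨ G.eval x ≠ 0 := by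
  by_contra hc
  push Not at hc
  obtain ⟨r, s, hrs⟩ := h
  have := congrArg (eval x) hrs
  simp [hc.1, hc.2] at this

omit [CharP L p] in
lemma Chart.wronskian_eq (h : Chart d e a b c bF ij P F G) (he : WAdm p d e) :
    ∃ t : L, t ≠ 0 ∧ wronskian F G = C t * ramDiv P e := by
  refine wronskian_eq_C_mul_of_wAdm he h.inj h.degF h.degG h.wr fun l => ?_
  rcases eval_ne_zero_of_isCoprime h.cop (P l) with hu | hv
  · refine (isUnit_C.2 hu.isUnit).dvd_mul_left.1 ?_
    have := pow_sub_one_dvd_wronskian F (h.ram l)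
    rw [← wronskian_neg_eq, dvd_neg] at this
    have e' : wronskian F (C (G.eval (P l)) * F - C (F.eval (P l)) * G) =
        -(C (F.eval (P l)) * wronskian F G) := by
      simp only [wronskian, map_sub, derivative_mul, derivative_C]; ring
    rwa [e', dvd_neg] at this
  · refine (isUnit_C.2 hv.isUnit).dvd_mul_left.1 ?_
    have := pow_sub_one_dvd_wronskian G (h.ram l)
    have e' : wronskian (C (G.eval (P l)) * F - C (F.eval (P l)) * G) G =
        C (G.eval (P l)) * wronskian F G := by
      simp only [wronskian, map_sub, derivative_mul, derivative_C]; ring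
    rwa [e'] at this

lemma Chart.pow_dvd_motion (h : Chart d e a b c bF ij P F G) (D : Derivation k L L) (l : Fin n)
    (hl : tau P F G l D = 0) : (X - C (P l)) ^ (e l - 1) ∣ motion F G D := by
  set u := F.eval (P l) with hu
  set v := G.eval (P l) with hv
  set s := C v * F - C u * G with hs
  have hτ : D u * v - u * D v = 0 := hl
  have hτ' : C (D u) * C v - C u * C (D v) = 0 := by rw [← map_mul, ← map_mul, ← map_sub, hτ, map_zero]
  have h1 : (X - C (P l)) ^ (e l - 1) ∣ s := (pow_dvd_pow _ (Nat.sub_le _ _)).trans (h.ram l)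
  have h2 : (X - C (P l)) ^ (e l - 1) ∣ dmap D s := pow_dvd_dmap D (h.ram l)
  have h3 : dmap D s = C (D v) * F - C (D u) * G + (C v * dmap D F - C u * dmap D G) := by
    simp only [hs, dmap_sub, dmap_mul, dmap_C]; ring
  rcases eval_ne_zero_of_isCoprime h.cop (P l) with hu0 | hv0
  · have key : C u * (C u * motion F G D) =
        (-C u * dmap D F - C (D u) * F) * s + C u * F * dmap D s := by
      rw [h3]
      simp only [motion, LinearMap.coe_mk, AddHom.coe_mk, hs]
      linear_combination (F * F) * hτ'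
    have hU : IsUnit (C u) := isUnit_C.2 (isUnit_iff_ne_zero.2 hu0)
    refine hU.dvd_mul_left.1 (hU.dvd_mul_left.1 ?_)
    rw [key]
    exact dvd_add (dvd_mul_of_dvd_right h1 _) (dvd_mul_of_dvd_right h2 _)
  · have key : C v * (C v * motion F G D) =
        (-C v * dmap D G - C (D v) * G) * s + C v * G * dmap D s := by
      rw [h3]
      simp only [motion, LinearMap.coe_mk, AddHom.coe_mk, hs]
      linear_combination (G * G) * hτ'
    have hU : IsUnit (C v) := isUnit_C.2 (isUnit_iff_ne_zero.2 hv0)
    refine hU.dvd_mul_left.1 (hU.dvd_mul_left.1 ?_)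
    rw [key]
    exact dvd_add (dvd_mul_of_dvd_right h1 _) (dvd_mul_of_dvd_right h2 _)

lemma Chart.motion_eq_zero_of (h : Chart d e a b c bF ij P F G) (he : WAdm p d e)
    (hgen : ∀ D : Derivation k L L, (∀ l, D (P l) = 0) → (∀ m, D (F.coeff m) = 0) →
      (∀ m, D (G.coeff m) = 0) → D = 0)
    {D : Derivation k L L} (hτ : ∀ l, tau P F G l D = 0) (hD : motion F G D = 0) : D = 0 := by
  have hF0 : F ≠ 0 := fun h0 => h.wr (by rw [h0, wronskian_zero_left])
  have hG0 : G ≠ 0 := fun h0 => h.wr (by rw [h0, wronskian_zero_right])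
  have heq : dmap D F * G = F * dmap D G := sub_eq_zero.1 hD
  have key : ∀ A B : L[X], A.natDegree ≤ d → A.coeff d = 1 → B ≠ 0 → IsCoprime A B →
      dmap D A * B = A * dmap D B → dmap D A = 0 ∧ dmap D B = 0 := by
    intro A B hA hA1 hB hAB hE
    have hAd : A.natDegree = d := le_antisymm hA (le_natDegree_of_ne_zero (by simp [hA1]))
    have hdvd : A ∣ dmap D A := hAB.dvd_of_dvd_mul_right ⟨dmap D B, hE⟩
    have h0 : dmap D A = 0 := by
      by_contra hne
      have h1 := natDegree_le_of_dvd hdvd hne
      have h2 : (dmap D A).natDegree = d :=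
        le_antisymm ((natDegree_dmap_le D A).trans hA) (hAd ▸ h1)
      have h3 := leadingCoeff_ne_zero.2 hne
      rw [leadingCoeff, h2, coeff_dmap, hA1, Derivation.map_one_eq_zero] at h3
      exact h3 rfl
    refine ⟨h0, ?_⟩
    rw [h0, zero_mul, eq_comm, mul_eq_zero] at hE
    exact hE.resolve_left (fun h' => by simp [h'] at hA1)
  obtain ⟨hF1, hG1⟩ : dmap D F = 0 ∧ dmap D G = 0 := by
    cases bF with
    | true => exact key F G h.degF (by simpa using h.norm) hG0 h.cop heq
    | false =>
      exact (key G F h.degG (by simpa using h.norm) hF0 h.cop.symm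
        (by rw [mul_comm, ← heq, mul_comm])).symm
  obtain ⟨t, ht, hW⟩ := h.wronskian_eq he
  have hcF : ∀ m, D (F.coeff m) = 0 := fun m => by rw [← coeff_dmap, hF1, coeff_zero]
  have hcG : ∀ m, D (G.coeff m) = 0 := fun m => by rw [← coeff_dmap, hG1, coeff_zero]
  refine hgen D (fun l => ?_) hcF hcG
  set u := F.eval (P l) with hu
  set v := G.eval (P l) with hv
  set s := C v * F - C u * G with hs
  have hτ1 : D u * v - u * D v = 0 := hτ l
  have hτ' : C (D u) * C v - C u * C (D v) = 0 := by
    rw [← map_mul, ← map_mul, ← map_sub, hτ1, map_zero]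
  have hds : dmap D s = C (D v) * F - C (D u) * G := by
    simp only [hs, dmap_sub, dmap_mul, dmap_C, hF1, hG1]; ring
  obtain ⟨g, hg⟩ := h.ram l
  rw [← hu, ← hv, ← hs] at hg
  have hg0 : g.eval (P l) ≠ 0 := by
    intro hg0
    have hdv : (X - C (P l)) ^ (e l + 1) ∣ s := by
      rw [hg, pow_succ]; exact mul_dvd_mul_left _ (dvd_iff_isRoot.2 hg0)
    have hWd : (X - C (P l)) ^ (e l) ∣ wronskian F G := by
      rcases eval_ne_zero_of_isCoprime h.cop (P l) with hu0 | hv0
      · have := pow_sub_one_dvd_wronskian F hdv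
        rw [Nat.add_sub_cancel, ← wronskian_neg_eq, dvd_neg] at this
        have e' : wronskian F s = C (-u) * wronskian F G := by
          simp only [hs, wronskian, map_sub, derivative_mul, derivative_C, map_neg]; ring
        rw [e'] at this
        exact (isUnit_C.2 (neg_ne_zero.2 hu0).isUnit).dvd_mul_left.1 this
      · have := pow_sub_one_dvd_wronskian G hdv
        rw [Nat.add_sub_cancel] at this
        have e' : wronskian s G = C v * wronskian F G := by
          simp only [hs, wronskian, map_sub, derivative_mul, derivative_C]; ring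
        rw [e'] at this
        exact (isUnit_C.2 (Ne.isUnit hv0)).dvd_mul_left.1 this
    rw [hW] at hWd
    exact not_pow_dvd_ramDiv h.inj l (by have := (he.1 l).1; omega)
      ((isUnit_C.2 ht.isUnit).dvd_mul_left.1 hWd)
  have hdv : (X - C (P l)) ^ (e l) ∣ dmap D s := by
    rcases eval_ne_zero_of_isCoprime h.cop (P l) with hu0 | hv0
    · refine (isUnit_C.2 (Ne.isUnit hu0)).dvd_mul_left.1 ⟨g * C (D u), ?_⟩
      rw [hds, ← mul_assoc, ← hg, hs]
      linear_combination -F * hτ'
    · refine (isUnit_C.2 (Ne.isUnit hv0)).dvd_mul_left.1 ⟨g * C (D v), ?_⟩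
      rw [hds, ← mul_assoc, ← hg, hs]
      linear_combination -G * hτ'
  obtain ⟨m, hm⟩ : ∃ m, e l = m + 1 := ⟨e l - 1, by have := (he.1 l).1; omega⟩
  rw [hg, hm, dmap_mul, dmap_X_sub_C_pow, dvd_add_left (dvd_mul_right _ _), pow_succ,
    mul_comm (C _) ((X - C (P l)) ^ m), mul_assoc,
    mul_dvd_mul_iff_left (pow_ne_zero _ (X_sub_C_ne_zero _)), dvd_iff_isRoot, IsRoot.def,
    eval_mul, eval_C, mul_eq_zero, or_iff_left hg0, mul_eq_zero] at hdv
  refine hdv.resolve_left ?_
  rw [neg_eq_zero, CharP.cast_eq_zero_iff L p, ← hm]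
  exact (he.1 l).2

lemma Chart.finrank_derivation_le (h : Chart d e a b c bF ij P F G) (he : WAdm p d e)
    (hgen : ∀ D : Derivation k L L, (∀ l, D (P l) = 0) → (∀ m, D (F.coeff m) = 0) →
      (∀ m, D (G.coeff m) = 0) → D = 0)
    (S : Finset (Fin n))
    (hS : ∀ l, l ∈ S ∨ l = a ∨ l = b ∨ l = c ∨
      ∃ i, (i ∈ S ∨ i = a ∨ i = b ∨ i = c) ∧ (i, l) ∈ ij)
    [Module.Finite L (Derivation k L L)] :
    Module.finrank L (Derivation k L L) ≤ 3 + S.card := by
  let T : Derivation k L L →ₗ[L] (S → L) := LinearMap.pi fun l => tau P F G l.1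
  have hker : ∀ D : T.ker, ∀ l, tau P F G l D.1 = 0 := by
    rintro ⟨D, hD⟩
    have base : ∀ l, (l ∈ S ∨ l = a ∨ l = b ∨ l = c) → tau P F G l D = 0 := by
      rintro l (hl | rfl | rfl | rfl)
      · exact congrFun hD ⟨l, hl⟩
      · simp [tau, h.va]
      · simp [tau, h.vb]
      · simp [tau, h.vc, mul_comm]
    intro l
    rcases hS l with hl | rfl | rfl | rfl | ⟨i, hi, hil⟩
    · exact base l (Or.inl hl)
    · exact base _ (Or.inr (Or.inl rfl))
    · exact base _ (Or.inr (Or.inr (Or.inl rfl)))
    · exact base _ (Or.inr (Or.inr (Or.inr rfl)))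
    · have h0 := base i hi
      have hq := h.eqv _ hil
      have hq' := congrArg D hq
      simp only [Derivation.leibniz, smul_eq_mul] at hq'
      simp only [tau, LinearMap.coe_mk, AddHom.coe_mk] at h0 ⊢
      rcases eq_or_ne (G.eval (P i)) 0 with hv | hv
      · have hu := (eval_ne_zero_of_isCoprime h.cop (P i)).resolve_right (not_not.2 hv)
        rw [hv, mul_zero, mul_eq_zero, or_iff_right hu] at hq
        rw [hq, map_zero, mul_zero, mul_zero, sub_zero]
      · refine (mul_eq_zero.1 ?_).resolve_left (pow_ne_zero 2 hv)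
        linear_combination G.eval (P l) ^ 2 * h0
          + (-G.eval (P i) * G.eval (P l)) * hq' + (G.eval (P l) * D (G.eval (P i))
          + G.eval (P i) * D (G.eval (P l))) * hq
  obtain ⟨t, ht, hW⟩ := h.wronskian_eq he
  let Φ : degreeLT L 3 →ₗ[L] L[X] :=
    (LinearMap.mulLeft L (ramDiv P e)).comp (degreeLT L 3).subtype
  let M : T.ker →ₗ[L] L[X] := (motion F G).comp T.ker.subtype
  have hMinj : Function.Injective M :=
    (injective_iff_map_eq_zero M).2 fun D hD =>
      Subtype.ext (h.motion_eq_zero_of he hgen (hker D) hD)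
  have hMrange : LinearMap.range M ≤ LinearMap.range Φ := by
    rintro _ ⟨D, rfl⟩
    have hdvd : ramDiv P e ∣ M D := Finset.prod_dvd_of_coprime (fun i _ j _ hij =>
      (isCoprime_X_sub_C_of_isUnit_sub (sub_ne_zero.2 (h.inj.ne hij)).isUnit).pow)
        fun l _ => h.pow_dvd_motion D.1 l (hker D l)
    obtain ⟨q, hq⟩ := hdvd
    have hdeg : (M D).natDegree ≤ 2 * d := by
      refine (natDegree_sub_le _ _).trans (max_le ?_ ?_) <;>
        refine natDegree_mul_le.trans ?_
      · exact (add_le_add ((natDegree_dmap_le _ F).trans h.degF) h.degG).trans (by omega)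
      · exact (add_le_add h.degF ((natDegree_dmap_le _ G).trans h.degG)).trans (by omega)
    refine ⟨⟨q, ?_⟩, by rw [hq]; rfl⟩
    rw [mem_degreeLT]
    rcases eq_or_ne q 0 with rfl | hq0
    · simp only [degree_zero]; exact WithBot.bot_lt_coe _
    · rw [← natDegree_lt_iff_degree_lt hq0]
      have := natDegree_ramDiv_of_wAdm (P := P) he
      rw [hq, natDegree_mul ramDiv_ne_zero hq0] at hdeg
      omega
  have hK : Module.finrank L T.ker ≤ 3 := by
    haveI : Module.Finite L (degreeLT L 3) := Module.Finite.equiv (degreeLTEquiv L 3).symm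
    rw [← LinearMap.finrank_range_of_inj hMinj]
    refine (Submodule.finrank_mono hMrange).trans ((LinearMap.finrank_range_le Φ).trans ?_)
    rw [(degreeLTEquiv L 3).finrank_eq, Module.finrank_fin_fun]
  have := T.finrank_range_add_finrank_ker
  have hR := Submodule.finrank_le (LinearMap.range T)
  rw [Module.finrank_fintype_fun_eq_card, Fintype.card_coe] at hR
  omega

end Derivation

/-- Independent elements force derivations. -/
theorem le_finrank_derivation {k L : Type u} [Field k] [Field L] [Algebra k L] [PerfectField k]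
    [Algebra.EssFiniteType k L] {ι : Type} [Fintype ι] (v : ι → L) (hv : AlgebraicIndependent k v) :
    Module.Finite L (Derivation k L L) ∧
      Fintype.card ι ≤ Module.finrank L (Derivation k L L) := by
  obtain ⟨s, hs, -⟩ := exists_isTranscendenceBasis_and_isSeparable_of_perfectField k L
  have ht : Algebra.trdeg k L = (s.card : Cardinal) := by
    rw [← hs.cardinalMk_eq_trdeg]; simp
  have hle : Fintype.card ι ≤ s.card := by
    have := hv.lift_cardinalMk_le_trdeg
    rw [ht] at this
    simpa using this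
  have hΩ := Omega.RankDim.finrank_kaehler_eq_trdeg k L s.card ht
  haveI : Module.Finite L (KaehlerDifferential k L) :=
    (FieldSep.Cartier.finrank_sub_finrank_eq_trdeg k L).1
  let E := KaehlerDifferential.linearMapEquivDerivation k L (M := L)
  refine ⟨Module.Finite.equiv E, ?_⟩
  rw [← E.finrank_eq, Module.finrank_linearMap_self, hΩ]
  exact hle

end Groth.Agent.RamP1
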