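import Groth.Agent.RamP1Lib.Basic
import Mathlib.RingTheory.Polynomial.Basic

/-!
Pencils with three prescribed ramification points.
-/

namespace Groth.Agent.RamP1

open Polynomial W4c1limliniiii

variable {k : Type*} [Field k] {p d : ℕ} {P : Fin 3 → k} {e : Fin 3 → ℕ}

/-- polynomials of degree at most `d` vanishing to order at least `e` at `a` -/
noncomputable def vanish (d : ℕ) (a : k) (e : ℕ) : Submodule k k[X] :=
  degreeLE k (d : WithBot ℕ) ⊓ (Ideal.span {(X - C a) ^ e}).restrictScalars k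

lemma mem_vanish {a : k} {e : ℕ} {s : k[X]} :
    s ∈ vanish d a e ↔ s.natDegree ≤ d ∧ (X - C a) ^ e ∣ s := by
  rw [vanish, Submodule.mem_inf, mem_degreeLE_iff, Submodule.restrictScalars_mem,
    Ideal.mem_span_singleton]

lemma mem_vanish_of_le {a : k} {e : ℕ} {s : k[X]} (hs : s.natDegree ≤ d) (hs0 : s ≠ 0)
    (h : e ≤ rootMultiplicity a s) : s ∈ vanish d a e :=
  mem_vanish.2 ⟨hs, (le_rootMultiplicity_iff hs0).1 h⟩

lemma le_of_mem_vanish {a : k} {e : ℕ} {s : k[X]} (hs : s ∈ vanish d a e) (hs0 : s ≠ 0) :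
    e ≤ rootMultiplicity a s :=
  (le_rootMultiplicity_iff hs0).2 (mem_vanish.1 hs).2

/-- the linear space of triples summing to zero -/
noncomputable def triples (d : ℕ) (P : Fin 3 → k) (e : Fin 3 → ℕ) :
    Submodule k (k[X] × k[X]) :=
  ((vanish d (P 0) (e 0)).prod (vanish d (P 1) (e 1))) ⊓
    (vanish d (P 2) (e 2)).comap (LinearMap.fst k k[X] k[X] + LinearMap.snd k k[X] k[X])

lemma mem_triples {v : k[X] × k[X]} : v ∈ triples d P e ↔
    v.1 ∈ vanish d (P 0) (e 0) ∧ v.2 ∈ vanish d (P 1) (e 1) ∧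
      v.1 + v.2 ∈ vanish d (P 2) (e 2) := by
  simp [triples, and_assoc]

section

variable (hP : Function.Injective P) (he : Admissible p d e)

include he in
lemma sum_e : e 0 + e 1 + e 2 = 2 * d + 1 := by
  have := he.2
  rw [Fin.sum_univ_three] at this
  omega

include hP he in
lemma eq_zero_of_mem_two {i j : Fin 3} (hij : i ≠ j) {s : k[X]}
    (hi : s ∈ vanish d (P i) (e i)) (hj : s ∈ vanish d (P j) (e j)) : s = 0 := by
  by_contra h0
  have hd := ((isCoprime_X_sub_C_of_isUnit_sub (sub_ne_zero.2 (hP.ne hij)).isUnit).pow).mul_dvd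
    (mem_vanish.1 hi).2 (mem_vanish.1 hj).2
  have := natDegree_le_of_dvd hd h0
  simp [natDegree_mul, pow_ne_zero, X_sub_C_ne_zero] at this
  have h1 := (mem_vanish.1 hi).1
  have := sum_e he
  have := he.1
  have h3 : e 0 ≤ d := (he.1 0).2.1
  have h4 : e 1 ≤ d := (he.1 1).2.1
  have h5 : e 2 ≤ d := (he.1 2).2.1
  have hij' : d < e i + e j := by
    fin_cases i <;> fin_cases j <;> first | exact absurd rfl hij | (simp; omega)
  omega

include hP he in
lemma indep_of_mem_two {i j : Fin 3} (hij : i ≠ j) {s t : k[X]}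
    (hi : s ∈ vanish d (P i) (e i)) (hj : t ∈ vanish d (P j) (e j)) (hs : s ≠ 0) (ht : t ≠ 0) :
    LinearIndependent k ![s, t] :=
  (LinearIndependent.pair_iff' hs).2 fun c hc =>
    ht (eq_zero_of_mem_two hP he hij (hc ▸ Submodule.smul_mem _ c hi) hj)

include he in
lemma exists_ne_zero : ∃ v ∈ triples d P e, v ≠ 0 := by
  let φ : ∀ i, degreeLT k (d + 1 - e i) →ₗ[k] k[X] := fun i =>
    (LinearMap.mulLeft k ((X - C (P i)) ^ e i)).comp (degreeLT k _).subtype
  have hφd : ∀ i g, (φ i g).natDegree ≤ d := fun i g => by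
    change ((X - C (P i)) ^ e i * g.1).natDegree ≤ d
    by_cases h0 : g.1 = 0
    · simp [h0]
    rw [natDegree_mul (pow_ne_zero _ (X_sub_C_ne_zero _)) h0, natDegree_pow, natDegree_X_sub_C,
      mul_one]
    have := (natDegree_lt_iff_degree_lt h0).2 (mem_degreeLT.1 g.2)
    omega
  have hφ : ∀ i g, φ i g ∈ vanish d (P i) (e i) := fun i g =>
    mem_vanish.2 ⟨hφd i g, dvd_mul_right _ _⟩
  let Φ : (degreeLT k (d + 1 - e 0) × degreeLT k (d + 1 - e 1) × degreeLT k (d + 1 - e 2)) →ₗ[k]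
      degreeLT k (d + 1) :=
    LinearMap.codRestrict _
      ((φ 0).coprod ((φ 1).coprod (φ 2))) (fun g => by
        have hm : ∀ i g, φ i g ∈ degreeLT k (d + 1) := fun i g => by
          rw [mem_degreeLT]
          refine lt_of_le_of_lt degree_le_natDegree ?_
          have := hφd i g
          exact_mod_cast (show (φ i g).natDegree < d + 1 by omega)
        simp only [LinearMap.coprod_apply]
        exact add_mem (hm 0 _) (add_mem (hm 1 _) (hm 2 _)))
  have := fun n => Module.Finite.equiv (degreeLTEquiv k n).symm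
  have hdim : ∀ n, Module.finrank k (degreeLT k n) = n := fun n => by
    rw [(degreeLTEquiv k n).finrank_eq, Module.finrank_fin_fun]
  have hker := LinearMap.ker_ne_bot_of_finrank_lt (f := Φ) (by
    rw [Module.finrank_prod, Module.finrank_prod, hdim, hdim, hdim, hdim]
    have := sum_e he
    have h3 : e 0 ≤ d := (he.1 0).2.1
    have h4 : e 1 ≤ d := (he.1 1).2.1
    have h5 : e 2 ≤ d := (he.1 2).2.1
    omega)
  obtain ⟨⟨g₀, g₁, g₂⟩, hg, hg0⟩ := Submodule.exists_mem_ne_zero_of_ne_bot hker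
  have hsum : φ 0 g₀ + (φ 1 g₁ + φ 2 g₂) = 0 := congrArg Subtype.val hg
  refine ⟨(φ 0 g₀, φ 1 g₁), mem_triples.2 ⟨hφ 0 g₀, hφ 1 g₁, ?_⟩, fun h => hg0 ?_⟩
  · change φ 0 g₀ + φ 1 g₁ ∈ _
    rw [show φ 0 g₀ + φ 1 g₁ = φ 2 (-g₂) by rw [map_neg]; linear_combination hsum]
    exact hφ 2 _
  · obtain ⟨h0, h1⟩ := Prod.mk.injEq _ _ _ _ ▸ h
    have hinj : ∀ i g, φ i g = 0 → g = 0 := fun i g hg =>
      Subtype.ext ((mul_eq_zero.1 hg).resolve_left (pow_ne_zero _ (X_sub_C_ne_zero _)))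
    rw [h0, h1, zero_add, zero_add] at hsum
    rw [hinj 0 g₀ h0, hinj 1 g₁ h1, hinj 2 g₂ hsum]
    rfl

include hP he in
lemma components_ne_zero {v : k[X] × k[X]} (hv : v ∈ triples d P e) (h0 : v ≠ 0) :
    v.1 ≠ 0 ∧ v.2 ≠ 0 ∧ v.1 + v.2 ≠ 0 := by
  obtain ⟨h1, h2, h3⟩ := mem_triples.1 hv
  refine ⟨fun h => ?_, fun h => ?_, fun h => ?_⟩
  · rw [h, zero_add] at h3
    exact h0 (Prod.ext h (eq_zero_of_mem_two hP he (by decide) h2 h3))
  · rw [h, add_zero] at h3
    exact h0 (Prod.ext (eq_zero_of_mem_two hP he (by decide) h1 h3) h)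
  · have hneg : v.1 = -v.2 := eq_neg_of_add_eq_zero_left h
    have h1' : v.2 ∈ vanish d (P 0) (e 0) := by
      rw [show v.2 = -v.1 by rw [hneg, neg_neg]]; exact neg_mem h1
    have hz := eq_zero_of_mem_two hP he (by decide) h1' h2
    exact h0 (Prod.ext (by rw [hneg, hz, neg_zero]; rfl) hz)

include hP he in
lemma span_props {v : k[X] × k[X]} (hv : v ∈ triples d P e) (h0 : v ≠ 0) :
    Submodule.span k {v.1, v.2} ≤ degreeLE k (d : WithBot ℕ) ∧
      Module.finrank k (Submodule.span k {v.1, v.2}) = 2 ∧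
      ∀ i, ∃ s ∈ Submodule.span k {v.1, v.2}, s ≠ 0 ∧ e i ≤ rootMultiplicity (P i) s := by
  obtain ⟨h1, h2, h3⟩ := mem_triples.1 hv
  obtain ⟨n1, n2, n3⟩ := components_ne_zero hP he hv h0
  refine ⟨span_pair_le (mem_degreeLE_iff.2 (mem_vanish.1 h1).1)
    (mem_degreeLE_iff.2 (mem_vanish.1 h2).1),
    finrank_span_pair (indep_of_mem_two hP he (by decide) h1 h2 n1 n2), fun i => ?_⟩
  have m1 : v.1 ∈ Submodule.span k {v.1, v.2} := Submodule.subset_span (by simp)
  have m2 : v.2 ∈ Submodule.span k {v.1, v.2} := Submodule.subset_span (by simp)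
  fin_cases i
  · exact ⟨v.1, m1, n1, le_of_mem_vanish h1 n1⟩
  · exact ⟨v.2, m2, n2, le_of_mem_vanish h2 n2⟩
  · exact ⟨v.1 + v.2, add_mem m1 m2, n3, le_of_mem_vanish h3 n3⟩

include hP he in
lemma exists_triple_of_pencil {V : Submodule k k[X]} (hV : V ≤ degreeLE k (d : WithBot ℕ))
    (h2 : Module.finrank k V = 2)
    (hi : ∀ i, ∃ s ∈ V, s ≠ 0 ∧ e i ≤ rootMultiplicity (P i) s) :
    ∃ v ∈ triples d P e, v ≠ 0 ∧ Submodule.span k {v.1, v.2} = V := by
  choose s hsV hs0 hsm using hi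
  have hv : ∀ i, s i ∈ vanish d (P i) (e i) := fun i =>
    mem_vanish_of_le (mem_degreeLE_iff.1 (hV (hsV i))) (hs0 i) (hsm i)
  have hind := indep_of_mem_two hP he (show (0 : Fin 3) ≠ 1 by decide) (hv 0) (hv 1) (hs0 0) (hs0 1)
  have hVeq := eq_span_pair h2 (hsV 0) (hsV 1) hind
  obtain ⟨a, b, hab⟩ := Submodule.mem_span_pair.1 (hVeq ▸ hsV 2 : s 2 ∈ Submodule.span k {s 0, s 1})
  have ha : a ≠ 0 := fun h => hs0 2 (eq_zero_of_mem_two hP he (show (1 : Fin 3) ≠ 2 by decide)
    (by rw [← hab, h, zero_smul, zero_add]; exact Submodule.smul_mem _ b (hv 1)) (hv 2))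
  have hb : b ≠ 0 := fun h => hs0 2 (eq_zero_of_mem_two hP he (show (0 : Fin 3) ≠ 2 by decide)
    (by rw [← hab, h, zero_smul, add_zero]; exact Submodule.smul_mem _ a (hv 0)) (hv 2))
  refine ⟨(a • s 0, b • s 1), mem_triples.2 ⟨Submodule.smul_mem _ a (hv 0),
    Submodule.smul_mem _ b (hv 1), hab.symm ▸ hv 2⟩, fun h => ?_, ?_⟩
  · exact smul_ne_zero ha (hs0 0) (congrArg Prod.fst h)
  · refine (eq_span_pair h2 (Submodule.smul_mem _ a (hsV 0)) (Submodule.smul_mem _ b (hsV 1))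
      (indep_of_mem_two hP he (show (0 : Fin 3) ≠ 1 by decide) (Submodule.smul_mem _ a (hv 0))
        (Submodule.smul_mem _ b (hv 1)) (smul_ne_zero ha (hs0 0)) (smul_ne_zero hb (hs0 1)))).symm

include hP he in
lemma eq_smul_of_span_eq {v w : k[X] × k[X]} (hv : v ∈ triples d P e) (hw : w ∈ triples d P e)
    (hv0 : v ≠ 0) (h : Submodule.span k {v.1, v.2} = Submodule.span k {w.1, w.2}) :
    ∃ c : k, w = c • v := by
  obtain ⟨h1, h2, h3⟩ := mem_triples.1 hv
  obtain ⟨g1, g2, g3⟩ := mem_triples.1 hw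
  obtain ⟨n1, n2, -⟩ := components_ne_zero hP he hv hv0
  have m1 : w.1 ∈ Submodule.span k {v.1, v.2} := h ▸ Submodule.subset_span (by simp)
  have m2 : w.2 ∈ Submodule.span k {v.1, v.2} := h ▸ Submodule.subset_span (by simp)
  obtain ⟨a, b, hab⟩ := Submodule.mem_span_pair.1 m1
  obtain ⟨a', b', hab'⟩ := Submodule.mem_span_pair.1 m2
  have hb : b • v.2 = 0 := eq_zero_of_mem_two hP he (show (0 : Fin 3) ≠ 1 by decide)
    (by rw [show b • v.2 = w.1 - a • v.1 by rw [← hab]; abel]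
        exact sub_mem g1 (Submodule.smul_mem _ a h1)) (Submodule.smul_mem _ b h2)
  have ha : a' • v.1 = 0 := eq_zero_of_mem_two hP he (show (0 : Fin 3) ≠ 1 by decide)
    (Submodule.smul_mem _ a' h1)
    (by rw [show a' • v.1 = w.2 - b' • v.2 by rw [← hab']; abel]
        exact sub_mem g2 (Submodule.smul_mem _ b' h2))
  rw [hb, add_zero] at hab
  rw [ha, zero_add] at hab'
  have hz : (b' - a) • v.2 = 0 := eq_zero_of_mem_two hP he (show (1 : Fin 3) ≠ 2 by decide)
    (Submodule.smul_mem _ _ h2)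
    (by rw [show (b' - a) • v.2 = (w.1 + w.2) - a • (v.1 + v.2) by rw [← hab, ← hab']; module]
        exact sub_mem g3 (Submodule.smul_mem _ a h3))
  have hba : b' = a := sub_eq_zero.1 ((smul_eq_zero.1 hz).resolve_right n2)
  exact ⟨a, Prod.ext hab.symm (by rw [← hab', hba]; rfl)⟩

variable [IsAlgClosed k]

include hP he in
lemma eq_of_mem_ramMaps {V W : Submodule k k[X]} (hV : V ∈ ramMaps d P e)
    (hW : W ≤ degreeLE k (d : WithBot ℕ)) (hW2 : Module.finrank k W = 2)
    (hWi : ∀ i, ∃ s ∈ W, s ≠ 0 ∧ e i ≤ rootMultiplicity (P i) s) : W = V := by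
  obtain ⟨⟨hVd, hV2, ⟨top, htop, htopd⟩, hbp⟩, -, hram⟩ := hV
  obtain ⟨v, hv, hv0, hvV⟩ := exists_triple_of_pencil hP he hVd hV2 fun i => (hram i).1
  obtain ⟨w, hw, hw0, hwW⟩ := exists_triple_of_pencil hP he hW hW2 hWi
  obtain ⟨h1, h2, h3⟩ := mem_triples.1 hv
  obtain ⟨g1, g2, g3⟩ := mem_triples.1 hw
  obtain ⟨n1, n2, -⟩ := components_ne_zero hP he hv hv0
  have hD : v.1 * w.2 - v.2 * w.1 = 0 := by
    by_contra hD
    have d01 : (X - C (P 0)) ^ e 0 ∣ v.1 * w.2 - v.2 * w.1 :=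
      dvd_sub (dvd_mul_of_dvd_left (mem_vanish.1 h1).2 _) (dvd_mul_of_dvd_right (mem_vanish.1 g1).2 _)
    have d11 : (X - C (P 1)) ^ e 1 ∣ v.1 * w.2 - v.2 * w.1 :=
      dvd_sub (dvd_mul_of_dvd_right (mem_vanish.1 g2).2 _) (dvd_mul_of_dvd_left (mem_vanish.1 h2).2 _)
    have d21 : (X - C (P 2)) ^ e 2 ∣ v.1 * w.2 - v.2 * w.1 := by
      rw [show v.1 * w.2 - v.2 * w.1 = v.1 * (w.1 + w.2) - (v.1 + v.2) * w.1 by ring]
      exact dvd_sub (dvd_mul_of_dvd_right (mem_vanish.1 g3).2 _)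
        (dvd_mul_of_dvd_left (mem_vanish.1 h3).2 _)
    have hc : ∀ i j : Fin 3, i ≠ j →
        IsCoprime ((X - C (P i)) ^ e i) ((X - C (P j)) ^ e j) := fun i j hij =>
      (isCoprime_X_sub_C_of_isUnit_sub (sub_ne_zero.2 (hP.ne hij)).isUnit).pow
    have hd := ((hc 0 2 (by decide)).mul_left (hc 1 2 (by decide))).mul_dvd
      ((hc 0 1 (by decide)).mul_dvd d01 d11) d21
    have := natDegree_le_of_dvd hd hD
    simp [natDegree_mul, pow_ne_zero, X_sub_C_ne_zero] at this
    have hdeg : (v.1 * w.2 - v.2 * w.1).natDegree ≤ 2 * d :=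
      (natDegree_sub_le _ _).trans (max_le
        (natDegree_mul_le.trans (by have := (mem_vanish.1 h1).1; have := (mem_vanish.1 g2).1; omega))
        (natDegree_mul_le.trans (by have := (mem_vanish.1 h2).1; have := (mem_vanish.1 g1).1; omega)))
    have := sum_e he
    omega
  have hcop : IsCoprime v.1 v.2 := isCoprime_of_pencil fun a => by rw [hvV]; exact hbp a
  obtain ⟨h, hh⟩ : v.1 ∣ w.1 := hcop.dvd_of_dvd_mul_left ⟨w.2, by linear_combination -hD⟩
  have hw2 : w.2 = v.2 * h := mul_left_cancel₀ n1 (by rw [hh] at hD; linear_combination hD)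
  obtain ⟨m1, m2, -⟩ := components_ne_zero hP he hw hw0
  have hh0 : h ≠ 0 := by rintro rfl; exact m1 (by rw [hh, mul_zero])
  have hdeg : h.natDegree = 0 := by
    obtain ⟨a, b, hab⟩ := Submodule.mem_span_pair.1 (hvV.symm ▸ htop : top ∈ Submodule.span k {v.1, v.2})
    have hle : d ≤ max v.1.natDegree v.2.natDegree := by
      rw [← htopd, ← hab]
      exact (natDegree_add_le _ _).trans (max_le_max (natDegree_smul_le a _) (natDegree_smul_le b _))
    have e1 := (mem_vanish.1 g1).1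
    have e2 := (mem_vanish.1 g2).1
    rw [hh, natDegree_mul n1 hh0] at e1
    rw [hw2, natDegree_mul n2 hh0] at e2
    omega
  obtain ⟨c, rfl⟩ := natDegree_eq_zero.1 hdeg
  rw [← hwW, ← hvV]
  refine le_antisymm (span_pair_le ?_ ?_) ?_
  · rw [hh, mul_comm, ← smul_eq_C_mul]; exact Submodule.smul_mem _ c (Submodule.subset_span (by simp))
  · rw [hw2, mul_comm, ← smul_eq_C_mul]; exact Submodule.smul_mem _ c (Submodule.subset_span (by simp))
  · have hc : c ≠ 0 := by rintro rfl; exact hh0 (map_zero C)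
    refine span_pair_le ?_ ?_
    · rw [show v.1 = c⁻¹ • w.1 by
        rw [hh, mul_comm, ← smul_eq_C_mul, smul_smul, inv_mul_cancel₀ hc, one_smul]]
      exact Submodule.smul_mem _ _ (Submodule.subset_span (by simp))
    · rw [show v.2 = c⁻¹ • w.2 by
        rw [hw2, mul_comm, ← smul_eq_C_mul, smul_smul, inv_mul_cancel₀ hc, one_smul]]
      exact Submodule.smul_mem _ _ (Submodule.subset_span (by simp))

end

section General

variable {n : ℕ} {P : Fin n → k} {e : Fin n → ℕ}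

/-- the product defining the Wronskian divisor -/
noncomputable def ramDiv (P : Fin n → k) (e : Fin n → ℕ) : k[X] :=
  ∏ i, (X - C (P i)) ^ (e i - 1)

lemma ramDiv_ne_zero : ramDiv P e ≠ 0 :=
  Finset.prod_ne_zero_iff.2 fun i _ => pow_ne_zero _ (X_sub_C_ne_zero _)

lemma natDegree_ramDiv (he : Admissible p d e) : (ramDiv P e).natDegree + 2 = 2 * d := by
  rw [ramDiv, natDegree_prod _ _ fun i _ => pow_ne_zero _ (X_sub_C_ne_zero _)]
  simp only [natDegree_pow, natDegree_X_sub_C, mul_one]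
  have h : ∑ i, (e i - 1) + n = ∑ i, e i := by
    conv_rhs => rw [← Finset.sum_congr rfl fun i _ => Nat.sub_add_cancel
      (show 1 ≤ e i by have := (he.1 i).1; omega)]
    rw [Finset.sum_add_distrib]; simp
  have := he.2
  omega

lemma wronskian_eq_C_mul (he : Admissible p d e) (hP : Function.Injective P) {F G : k[X]}
    (hF : F.natDegree ≤ d) (hG : G.natDegree ≤ d)
    (hbp : ∀ i, ∃ t ∈ Submodule.span k {F, G}, t.eval (P i) ≠ 0)
    (hex : ∀ i, ∃ s ∈ Submodule.span k {F, G}, s ≠ 0 ∧ e i ≤ rootMultiplicity (P i) s)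
    (hW : wronskian F G ≠ 0) : ∃ c : k, c ≠ 0 ∧ wronskian F G = C c * ramDiv P e := by
  have hdvd : ramDiv P e ∣ wronskian F G := by
    refine Finset.prod_dvd_of_coprime (fun i _ j _ hij =>
      (isCoprime_X_sub_C_of_isUnit_sub (sub_ne_zero.2 (hP.ne hij)).isUnit).pow) fun i _ => ?_
    obtain ⟨t, ht, hta⟩ := hbp i
    obtain ⟨s, hs, hs0, hsm⟩ := hex i
    exact dvd_wronskian_of_mem hs hs0 ht hta ((le_rootMultiplicity_iff hs0).1 hsm)
  obtain ⟨q, hq⟩ := hdvd
  have hq0 : q ≠ 0 := fun h => hW (by rw [hq, h, mul_zero])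
  have h1 := natDegree_wronskian_le hF hG hW
  have h2 := natDegree_ramDiv (P := P) he
  rw [hq, natDegree_mul ramDiv_ne_zero hq0] at h1
  obtain ⟨c, rfl⟩ := natDegree_eq_zero.1 (show q.natDegree = 0 by omega)
  exact ⟨c, fun h => hq0 (by rw [h, map_zero]), by rw [hq, mul_comm]⟩

lemma not_pow_dvd_ramDiv (hP : Function.Injective P) (i : Fin n) {m : ℕ} (hm : e i - 1 < m) :
    ¬ (X - C (P i)) ^ m ∣ ramDiv P e := by
  intro h
  have h' := (pow_dvd_pow _ (Nat.succ_le_of_lt hm)).trans h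
  rw [ramDiv, ← Finset.mul_prod_erase _ _ (Finset.mem_univ i), pow_succ,
    mul_dvd_mul_iff_left (pow_ne_zero _ (X_sub_C_ne_zero _)), dvd_iff_isRoot, IsRoot.def,
    eval_prod, Finset.prod_eq_zero_iff] at h'
  obtain ⟨j, hj, hj0⟩ := h'
  simp at hj0
  exact (Finset.ne_of_mem_erase hj) (hP (sub_eq_zero.1 hj0.1)).symm

end General

theorem mem_ramMaps_of_triple [IsAlgClosed k] (hP : Function.Injective P) (he : Admissible p d e)
    {v : k[X] × k[X]} (hv : v ∈ triples d P e) (hv0 : v ≠ 0) (hW : wronskian v.1 v.2 ≠ 0) :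
    Submodule.span k {v.1, v.2} ∈ ramMaps d P e := by
  obtain ⟨hle, h2, hex⟩ := span_props hP he hv hv0
  have hF : v.1.natDegree ≤ d := mem_degreeLE_iff.1 (hle (Submodule.subset_span (by simp)))
  have hG : v.2.natDegree ≤ d := mem_degreeLE_iff.1 (hle (Submodule.subset_span (by simp)))
  have hd : 2 ≤ d := by have := (he.1 0).1; have := (he.1 0).2.1; omega
  -- wronskian divisor without base point hypothesis
  obtain ⟨h1, h2', h3⟩ := mem_triples.1 hv
  obtain ⟨n1, n2, n3⟩ := components_ne_zero hP he hv hv0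
  have hW12 : wronskian v.1 (v.1 + v.2) = wronskian v.1 v.2 := by
    rw [wronskian_add_right, wronskian_self_eq_zero, zero_add]
  have hdvd : ramDiv P e ∣ wronskian v.1 v.2 := by
    refine Finset.prod_dvd_of_coprime (fun i _ j _ hij =>
      (isCoprime_X_sub_C_of_isUnit_sub (sub_ne_zero.2 (hP.ne hij)).isUnit).pow) fun i _ => ?_
    fin_cases i
    · exact pow_sub_one_dvd_wronskian _ (mem_vanish.1 h1).2
    · rw [← wronskian_neg_eq, dvd_neg]; exact pow_sub_one_dvd_wronskian _ (mem_vanish.1 h2').2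
    · rw [← hW12, ← wronskian_neg_eq, dvd_neg]; exact pow_sub_one_dvd_wronskian _ (mem_vanish.1 h3).2
  obtain ⟨q, hq⟩ := hdvd
  have hq0 : q ≠ 0 := fun h => hW (by rw [hq, h, mul_zero])
  have hdR := natDegree_ramDiv (P := P) he
  have hqd : q.natDegree = 0 := by
    have h1 := natDegree_wronskian_le hF hG hW
    rw [hq, natDegree_mul ramDiv_ne_zero hq0] at h1
    omega
  obtain ⟨c, rfl⟩ := natDegree_eq_zero.1 hqd
  have hc : c ≠ 0 := fun h => hq0 (by rw [h, map_zero])
  have hdvdiff : ∀ q : k[X], q ∣ wronskian v.1 v.2 ↔ q ∣ ramDiv P e := fun q => by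
    rw [hq]; exact IsUnit.dvd_mul_right (isUnit_C.2 hc.isUnit)
  have hbp : ∀ a, ∃ s ∈ Submodule.span k {v.1, v.2}, s.eval a ≠ 0 := by
    intro a
    by_contra hall
    push Not at hall
    obtain ⟨F', hF'⟩ := dvd_iff_isRoot.2 (hall v.1 (Submodule.subset_span (by simp)))
    obtain ⟨G', hG'⟩ := dvd_iff_isRoot.2 (hall v.2 (Submodule.subset_span (by simp)))
    by_cases ha : ∃ i, P i = a
    · obtain ⟨i, rfl⟩ := ha
      -- the member vanishing to order `e i` together with another one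
      have key : ∀ s t : k[X], (X - C (P i)) ^ e i ∣ s → (X - C (P i)) ∣ t →
          ¬ (X - C (P i)) ^ e i ∣ wronskian s t → False := by
        rintro _ _ ⟨s', rfl⟩ ⟨t', rfl⟩ hn
        have hei : e i = (e i - 1) + 1 := by have := (he.1 i).1; omega
        apply hn
        rw [show (X - C (P i)) ^ e i * s' = (X - C (P i)) * ((X - C (P i)) ^ (e i - 1) * s') by
          rw [← mul_assoc, ← pow_succ', ← hei], wronskian_mul_left]
        have h' := pow_sub_one_dvd_wronskian (F := (X - C (P i)) ^ (e i - 1) * s') t'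
          (dvd_mul_right ((X - C (P i)) ^ (e i - 1)) s')
        have := mul_dvd_mul_left ((X - C (P i)) ^ 2) h'
        rw [← pow_add] at this
        exact (pow_dvd_pow _ (by have := (he.1 i).1; omega)).trans this
      have hnot : ¬ (X - C (P i)) ^ e i ∣ wronskian v.1 v.2 := by
        rw [hdvdiff]; exact not_pow_dvd_ramDiv hP i (by have := (he.1 i).1; omega)
      fin_cases i
      · exact key _ _ (mem_vanish.1 h1).2 ⟨G', hG'⟩ hnot
      · exact key _ _ (mem_vanish.1 h2').2 ⟨F', hF'⟩ (by rwa [← wronskian_neg_eq, dvd_neg])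
      · exact key _ _ (mem_vanish.1 h3).2 ⟨F', hF'⟩
          (by rwa [← wronskian_neg_eq, dvd_neg, hW12])
    · push Not at ha
      have h' : (X - C a) ^ 2 ∣ ramDiv P e := by
        rw [← hdvdiff, hF', hG', wronskian_mul_left]
        exact dvd_mul_right _ _
      have h0 := eval_eq_zero_of_dvd_of_eval_eq_zero h' (show eval a ((X - C a) ^ 2) = 0 by simp)
      rw [ramDiv, eval_prod, Finset.prod_eq_zero_iff] at h0
      obtain ⟨j, -, hj⟩ := h0
      simp at hj
      exact ha j (sub_eq_zero.1 hj.1).symm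
  refine ⟨⟨hle, h2, ?_, hbp⟩, (isSeparable_span_iff _ _).2 hW, fun i =>
    hasRamIdx_of_not_dvd (hbp _) (hex i) ?_⟩
  · by_contra hall
    push Not at hall
    have l1 := hall v.1 (Submodule.subset_span (by simp))
    have l2 := hall v.2 (Submodule.subset_span (by simp))
    have h1 := natDegree_wronskian_le (d := d - 1) (show v.1.natDegree ≤ d - 1 by omega)
      (show v.2.natDegree ≤ d - 1 by omega) hW
    rw [hq, natDegree_mul ramDiv_ne_zero hq0, natDegree_C] at h1
    omega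
  · rw [hdvdiff]
    exact not_pow_dvd_ramDiv hP i (by have := (he.1 i).1; omega)

end Groth.Agent.RamP1
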